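/-
Case tree and table of moves for the involutions of `F₄`, characteristic two (found by a search, checked by the kernel).
-/
import Cfsg.Agent.Lib.Lie.CharTwoTree.Tree

set_option autoImplicit false
set_option maxRecDepth 100000

namespace CfsgLib.Lie.Chev.InvTree.F4

/-- the representatives -/
def reps : List (List ℕ) := [[47], [44], [47, 44], [39, 45]]

/-- part of the table -/
def moves0 : List (List ℕ × Move) := [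
  ([], .rep),
  ([39,45], .rep),
  ([44], .rep),
  ([44,47], .rep),
  ([47], .rep),
  ([38,46], (.byRefl 2 1)),
  ([39,40,45], (.byRoot 27 1)),
  ([39,44,45], (.byRoot 34 1)),
  ([39,45,46], (.byRoot 25 1)),
  ([39,45,47], (.byRoot 26 1)),
  ([40], (.byRefl 0 2)),
  ([40,43], (.byRefl 1 1)),
  ([40,47], (.byRefl 0 3)),
  ([44,46], (.byRefl 3 3)),
  ([46], (.byRefl 3 4)),
  ([32,44], (.byRefl 0 11)),
  ([36,46], (.byRefl 1 5)),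
  ([37,47], (.byRefl 3 5)),
  ([38,45,46], (.byRefl 2 8)),
  ([38,46,47], (.byRefl 2 9)),
  ([39], (.byRefl 1 10)),
  ([39,40,43], (.byRefl 1 6)),
  ([39,40,44,45], (.byRoot 33 6)),
  ([39,40,45,47], (.byRoot 27 9)),
  ([39,45,46,47], (.byRoot 24 8)),
  ([39,47], (.byRefl 1 12)),
  ([40,42], (.byRefl 2 11)),
  ([40,43,44], (.byRefl 1 7)),
  ([40,43,46], (.byRefl 1 8)),
  ([40,43,47], (.byRefl 1 9)),
  ([40,46], (.byRefl 3 12)),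
  ([44,45], (.byRefl 2 13)),
  ([45], (.byRefl 2 14)),
  ([29,46], (.byRefl 0 16)),
  ([31,44], (.byRefl 2 15)),
  ([32,39,44], (.byRefl 0 21)),
  ([32,44,47], (.byRefl 0 29)),
  ([35,47], (.byRefl 3 16)),
  ([36,43,46], (.byRefl 1 18)),
  ([36,45], (.byRefl 2 16)),
  ([36,46,47], (.byRefl 1 19)),
  ([37,45,47], (.byRefl 3 18)),
  ([37,46,47], (.byRefl 3 19)),
  ([38], (.byRefl 2 20)),
  ([38,39,46], (.byRoot 25 19)),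
  ([38,45,46,47], (.byRefl 2 24)),
  ([38,47], (.byRefl 2 25)),
  ([39,40,43,44], (.byRefl 1 22)),
  ([39,40,43,47], (.byRefl 1 23)),
  ([39,42], (.byRefl 1 26))]

/-- part of the table -/
def moves1 : List (List ℕ × Move) := [
  ([39,46], (.byRefl 3 25)),
  ([40,41], (.byRefl 3 26)),
  ([40,42,44], (.byRefl 2 27)),
  ([40,42,45], (.byRefl 2 28)),
  ([40,42,47], (.byRefl 2 29)),
  ([40,43,45], (.byRoot 27 27)),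
  ([40,43,46,47], (.byRefl 1 24)),
  ([40,45], (.byRefl 2 30)),
  ([43], (.byRefl 1 32)),
  ([43,44], (.byRefl 1 31)),
  ([26,44], (.byRefl 1 34)),
  ([28,47], (.byRefl 3 33)),
  ([29,32,46], (.byRefl 0 38)),
  ([29,45], (.byRefl 2 33)),
  ([29,46,47], (.byRefl 0 40)),
  ([30,44], (.byRefl 3 34)),
  ([31,39], (.byRefl 0 49)),
  ([31,44,47], (.byRefl 2 36)),
  ([32], (.byRefl 0 58)),
  ([32,43,44], (.byRoot 33 35)),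
  ([32,44,45], (.byRefl 0 55)),
  ([32,44,46,47], (.byRefl 0 56)),
  ([34,47], (.byRefl 2 37)),
  ([35,43,47], (.byRefl 3 38)),
  ([35,45], (.byRefl 3 39)),
  ([35,46,47], (.byRefl 3 40)),
  ([36], (.byRefl 1 43)),
  ([36,38,46,47], (.byRoot 27 40)),
  ([36,40,46], (.byRefl 1 44)),
  ([36,42,45], (.byRefl 2 38)),
  ([36,45,47], (.byRefl 2 40)),
  ([36,47], (.byRefl 1 46)),
  ([37], (.byRefl 3 43)),
  ([37,46], (.byRefl 3 46)),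
  ([38,39,45], (.byRoot 25 45)),
  ([38,40,42,47], (.byRefl 2 48)),
  ([38,43], (.byRefl 2 49)),
  ([38,45], (.byRefl 2 50)),
  ([39,41], (.byRefl 3 49)),
  ([39,42,43], (.byRefl 1 53)),
  ([39,42,44], (.byRefl 1 52)),
  ([39,42,47], (.byRefl 1 54)),
  ([39,43], (.byRefl 1 57)),
  ([39,43,45], (.byRoot 27 47)),
  ([40,42,43,44], (.byRoot 25 52)),
  ([40,42,45,47], (.byRefl 2 56)),
  ([40,42,46], (.byRefl 2 55)),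
  ([42], (.byRefl 2 58)),
  ([43,45], (.byRoot 27 59)),
  ([24,44], (.byRefl 2 60))]

/-- part of the table -/
def moves2 : List (List ℕ × Move) := [
  ([25,44], (.byRefl 3 60)),
  ([26,40], (.byRefl 0 60)),
  ([26,44,47], (.byRefl 1 67)),
  ([27,47], (.byRefl 2 61)),
  ([28,32,47], (.byRefl 3 62)),
  ([28,45], (.byRefl 3 63)),
  ([28,46,47], (.byRefl 3 64)),
  ([29], (.byRefl 0 76)),
  ([29,31,45], (.byRefl 2 62)),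
  ([29,43], (.byRefl 1 63)),
  ([29,44,46], (.byRefl 0 78)),
  ([29,45,47], (.byRefl 2 64)),
  ([29,47], (.byRefl 0 81)),
  ([30,39], (.byRefl 3 66)),
  ([31], (.byRefl 2 68)),
  ([31,39,47], (.byRefl 0 91)),
  ([31,44,45,47], (.byRefl 2 71)),
  ([31,44,46], (.byRefl 2 70)),
  ([32,38], (.byRefl 2 66)),
  ([32,39], (.byRefl 0 92)),
  ([32,43,45], (.byRoot 27 69)),
  ([32,45], (.byRefl 0 98)),
  ([33,47], (.byRefl 1 72)),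
  ([34,42,47], (.byRefl 2 73)),
  ([34,45,47], (.byRefl 2 75)),
  ([34,46], (.byRefl 2 74)),
  ([35], (.byRefl 3 76)),
  ([35,41,45], (.byRefl 3 79)),
  ([35,45,46], (.byRefl 3 80)),
  ([35,46], (.byRefl 3 81)),
  ([36,38,39,46], (.byRoot 25 77)),
  ([36,39,42,47], (.byRefl 1 85)),
  ([36,40,43], (.byRefl 1 84)),
  ([36,43], (.byRefl 1 87)),
  ([37,43], (.byRefl 3 86)),
  ([37,45], (.byRefl 2 83)),
  ([38,41], (.byRefl 2 88)),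
  ([38,42], (.byRefl 2 92)),
  ([38,42,43], (.byRefl 2 89)),
  ([38,42,46], (.byRefl 2 93)),
  ([38,43,44], (.byRefl 2 90)),
  ([38,43,47], (.byRefl 2 91)),
  ([39,40,42,47], (.byRoot 27 91)),
  ([39,42,43,47], (.byRefl 1 95)),
  ([39,42,46], (.byRefl 1 96)),
  ([40,41,47], (.byRefl 3 96)),
  ([40,42,43,45], (.byRoot 27 94)),
  ([41], (.byRefl 3 97)),
  ([42,46], (.byRefl 2 98)),
  ([24,40], (.byRefl 2 101))]

/-- part of the table -/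
def moves3 : List (List ℕ × Move) := [
  ([25,40], (.byRefl 3 101)),
  ([26], (.byRefl 1 114)),
  ([26,29,31,44,47], (.byRoot 27 102)),
  ([26,43,44,47], (.byRefl 1 116)),
  ([26,44,46], (.byRefl 1 117)),
  ([27,31,47], (.byRefl 2 104)),
  ([27,45,47], (.byRefl 2 106)),
  ([27,46], (.byRefl 2 105)),
  ([28], (.byRefl 3 107)),
  ([28,30,45], (.byRefl 3 108)),
  ([28,43], (.byRefl 3 109)),
  ([28,45,46], (.byRefl 3 111)),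
  ([28,46], (.byRefl 3 112)),
  ([29,31,39,47], (.byRefl 0 131)),
  ([29,32], (.byRefl 0 133)),
  ([29,32,44], (.byRefl 0 132)),
  ([29,42], (.byRefl 2 109)),
  ([29,44,45], (.byRefl 2 110)),
  ([30], (.byRefl 3 114)),
  ([30,38], (.byRefl 2 113)),
  ([30,44,47], (.byRefl 3 117)),
  ([31,32,39,47], (.byRefl 0 143)),
  ([31,38,39,42,47], (.byRoot 33 115)),
  ([31,39,44,47], (.byRefl 0 142)),
  ([31,39,46], (.byRefl 0 144)),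
  ([31,42,46], (.byRefl 2 120)),
  ([31,46], (.byRefl 2 121)),
  ([32,36], (.byRefl 1 118)),
  ([32,37], (.byRefl 3 118)),
  ([32,43], (.byRoot 33 119)),
  ([33,42,47], (.byRefl 1 123)),
  ([33,43,47], (.byRefl 1 124)),
  ([33,46], (.byRefl 1 125)),
  ([34], (.byRefl 2 126)),
  ([34,41,46], (.byRefl 2 127)),
  ([34,45], (.byRefl 2 129)),
  ([34,45,46], (.byRefl 2 128)),
  ([35,43], (.byRefl 1 135)),
  ([36,38,39,45], (.byRefl 2 130)),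
  ([36,41], (.byRefl 1 136)),
  ([36,42], (.byRefl 2 133)),
  ([36,42,46], (.byRefl 1 139)),
  ([37,41], (.byRefl 3 137)),
  ([37,41,43], (.byRefl 3 138)),
  ([37,41,47], (.byRefl 3 139)),
  ([37,42], (.byRefl 2 134)),
  ([37,43,44], (.byRefl 3 140)),
  ([37,43,46], (.byRefl 3 141)),
  ([38,43,45], (.byRefl 2 144)),
  ([39,40,42,43,44,45,47], (.byRoot 27 143))]

/-- part of the table -/
def moves4 : List (List ℕ × Move) := [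
  ([39,41,47], (.byRefl 3 144)),
  ([39,42,43,45], (.byRefl 1 146)),
  ([41,47], (.byRefl 3 148)),
  ([24], (.byRefl 2 151)),
  ([24,39], (.byRefl 1 149)),
  ([24,44,45], (.byRefl 2 154)),
  ([25], (.byRefl 3 151)),
  ([25,36], (.byRefl 1 169)),
  ([25,44,47], (.byRefl 3 154)),
  ([26,29,31,43,45,47], (.byRoot 27 153)),
  ([26,36,40,42,47], (.byRefl 0 152)),
  ([26,40,46], (.byRefl 0 154)),
  ([26,42,46], (.byRefl 1 175)),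
  ([26,46], (.byRefl 1 176)),
  ([27], (.byRefl 2 158)),
  ([27,30,46], (.byRefl 2 159)),
  ([27,42], (.byRefl 2 160)),
  ([27,45], (.byRefl 2 162)),
  ([27,45,46], (.byRefl 2 161)),
  ([28,32], (.byRefl 0 187)),
  ([28,41], (.byRefl 3 166)),
  ([29,30], (.byRefl 0 189)),
  ([29,31], (.byRefl 2 164)),
  ([29,31,44], (.byRefl 2 165)),
  ([29,31,46], (.byRefl 0 191)),
  ([29,32,38,47], (.byRefl 2 163)),
  ([29,43,44], (.byRefl 1 167)),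
  ([30,39,47], (.byRefl 3 174)),
  ([30,41,47], (.byRefl 3 175)),
  ([30,47], (.byRefl 3 176)),
  ([31,32,38,42,43], (.byRoot 33 171)),
  ([31,32,39,40,44,45,47], (.byRefl 0 199)),
  ([31,36], (.byRefl 2 177)),
  ([31,37], (.byRefl 2 178)),
  ([31,38,39,42,44,47], (.byRoot 33 173)),
  ([31,42], (.byRefl 2 179)),
  ([32,35], (.byRefl 3 177)),
  ([32,38,39,43,47], (.byRefl 2 172)),
  ([32,38,45], (.byRefl 2 174)),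
  ([33], (.byRefl 1 183)),
  ([33,41,46], (.byRefl 1 184)),
  ([33,43], (.byRefl 1 185)),
  ([33,43,46], (.byRefl 1 186)),
  ([33,45], (.byRefl 2 182)),
  ([34,42], (.byRefl 2 187)),
  ([35,41], (.byRefl 3 190)),
  ([35,41,47], (.byRefl 3 191)),
  ([35,42], (.byRefl 1 195)),
  ([36,38,40,43], (.byRefl 1 188)),
  ([36,43,45], (.byRefl 2 191))]

/-- part of the table -/
def moves5 : List (List ℕ × Move) := [
  ([37,41,42], (.byRefl 2 193)),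
  ([37,42,44], (.byRefl 2 196)),
  ([37,42,45], (.byRefl 2 197)),
  ([37,43,45], (.byRefl 3 198)),
  ([38,41,47], (.byRefl 2 200)),
  ([38,42,43,46], (.byRefl 2 201)),
  ([24,36,40,43,47], (.byRefl 2 210)),
  ([24,40,45], (.byRefl 2 211)),
  ([24,43,45], (.byRefl 2 212)),
  ([24,45], (.byRefl 2 213)),
  ([25,29], (.byRefl 0 207)),
  ([25,40,47], (.byRefl 3 211)),
  ([25,41,47], (.byRefl 3 212)),
  ([25,47], (.byRefl 3 213)),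
  ([26,29], (.byRefl 1 222)),
  ([26,29,44], (.byRefl 1 223)),
  ([26,31,46], (.byRefl 0 212)),
  ([26,32,36,42,45], (.byRefl 0 209)),
  ([26,35], (.byRefl 1 233)),
  ([26,38], (.byRefl 2 204)),
  ([26,42], (.byRefl 1 235)),
  ([27,31], (.byRefl 2 219)),
  ([27,41], (.byRefl 2 220)),
  ([28,30], (.byRefl 3 222)),
  ([28,30,47], (.byRefl 3 224)),
  ([28,31], (.byRefl 0 247)),
  ([29,32,38,39], (.byRoot 25 225)),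
  ([29,32,38,44], (.byRefl 0 248)),
  ([29,32,45], (.byRefl 2 224)),
  ([29,43,45], (.byRoot 27 226)),
  ([30,35], (.byRefl 3 232)),
  ([30,38,47], (.byRefl 2 227)),
  ([30,41], (.byRefl 3 235)),
  ([31,32,38,40,42,43,45], (.byRoot 33 231)),
  ([31,32,39,42,43], (.byRefl 2 230)),
  ([31,34], (.byRefl 2 236)),
  ([32,36,43], (.byRefl 1 238)),
  ([32,37,45], (.byRefl 3 238)),
  ([32,38,39,43,44,47], (.byRefl 2 234)),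
  ([32,38,43], (.byRoot 25 237)),
  ([33,41,45], (.byRefl 2 240)),
  ([33,42], (.byRefl 2 241)),
  ([33,42,45], (.byRefl 2 242)),
  ([34,41], (.byRefl 3 244)),
  ([34,41,47], (.byRefl 2 246)),
  ([34,43], (.byRefl 2 247)),
  ([35,41,42], (.byRefl 1 250)),
  ([35,42,43], (.byRefl 1 252)),
  ([35,43,45], (.byRefl 3 249)),
  ([36,41,47], (.byRefl 1 254))]

/-- part of the table -/
def moves6 : List (List ℕ × Move) := [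
  ([36,42,45,46], (.byRefl 1 255)),
  ([37,41,43,47], (.byRefl 3 255)),
  ([37,42,43,44], (.byRoot 25 251)),
  ([37,42,46], (.byRefl 2 253)),
  ([24,31,36,43,46], (.byRefl 2 267)),
  ([24,32,45], (.byRefl 2 266)),
  ([24,34], (.byRefl 2 268)),
  ([24,38,39,45,47], (.byRefl 1 256)),
  ([24,39,43], (.byRefl 1 257)),
  ([24,43], (.byRefl 2 270)),
  ([25,30,47], (.byRefl 3 266)),
  ([25,36,47], (.byRefl 1 281)),
  ([25,37], (.byRefl 3 269)),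
  ([25,41], (.byRefl 3 270)),
  ([26,28], (.byRefl 0 268)),
  ([26,31], (.byRoot 27 264)),
  ([26,31,44], (.byRoot 27 265)),
  ([26,33], (.byRefl 1 285)),
  ([27,30], (.byRefl 3 271)),
  ([27,30,47], (.byRefl 2 274)),
  ([27,32], (.byRefl 2 275)),
  ([28,30,31], (.byRefl 0 296)),
  ([28,31,32], (.byRefl 0 297)),
  ([28,32,45], (.byRefl 3 278)),
  ([28,43,45], (.byRefl 3 279)),
  ([29,30,47], (.byRefl 0 299)),
  ([29,31,39,44], (.byRefl 2 277)),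
  ([29,31,45,46], (.byRefl 0 300)),
  ([29,32,39,40,44,45], (.byRoot 34 276)),
  ([29,32,43], (.byRefl 1 278)),
  ([29,36,43,45], (.byRoot 33 279)),
  ([29,42,46], (.byRefl 2 279)),
  ([30,34], (.byRefl 2 280)),
  ([31,32,39,40,42,43,46], (.byRefl 2 283)),
  ([31,36,42], (.byRefl 2 286)),
  ([31,37,46], (.byRefl 2 287)),
  ([31,39,42], (.byRoot 25 284)),
  ([32,35,43], (.byRefl 3 286)),
  ([32,36,45], (.byRefl 1 289)),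
  ([32,37,43], (.byRefl 3 289)),
  ([32,38,43,44], (.byRoot 25 288)),
  ([33,41], (.byRefl 3 291)),
  ([33,41,47], (.byRefl 1 294)),
  ([34,41,43], (.byRefl 2 296)),
  ([34,42,43], (.byRefl 2 297)),
  ([34,42,46], (.byRefl 2 298)),
  ([35,41,45,47], (.byRefl 3 300)),
  ([35,42,46], (.byRefl 1 303)),
  ([37,41,42,47], (.byRefl 2 301)),
  ([37,42,43,45], (.byRoot 27 302))]

/-- part of the table -/
def moves7 : List (List ℕ × Move) := [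
  ([24,26,38,45,46], (.byRefl 1 304)),
  ([24,27], (.byRefl 2 314)),
  ([24,32], (.byRefl 2 315)),
  ([24,32,43], (.byRefl 1 305)),
  ([24,32,44], (.byRefl 2 316)),
  ([24,33], (.byRefl 2 317)),
  ([25,29,47], (.byRefl 0 311)),
  ([25,30], (.byRefl 3 315)),
  ([25,30,44], (.byRefl 3 316)),
  ([25,33], (.byRefl 1 332)),
  ([26,29,40,44], (.byRefl 1 326)),
  ([26,31,38,42,44], (.byRoot 33 316)),
  ([26,35,46], (.byRefl 1 335)),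
  ([26,38,39,46,47], (.byRefl 2 307)),
  ([26,38,42], (.byRefl 2 308)),
  ([26,40,42], (.byRefl 1 336)),
  ([27,30,32], (.byRefl 2 321)),
  ([27,31,32], (.byRefl 2 322)),
  ([27,31,46], (.byRefl 2 323)),
  ([27,42,46], (.byRefl 2 324)),
  ([28,30,45,47], (.byRefl 3 327)),
  ([28,31,46], (.byRefl 0 347)),
  ([28,32,43], (.byRefl 3 329)),
  ([28,41,47], (.byRefl 3 331)),
  ([29,31,42], (.byRefl 2 329)),
  ([29,32,36,45], (.byRefl 0 330)),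
  ([29,32,39,40,43,44], (.byRefl 1 328)),
  ([30,35,41], (.byRefl 3 334)),
  ([30,39,41], (.byRefl 3 336)),
  ([31,34,42], (.byRefl 2 337)),
  ([31,36,46], (.byRefl 2 338)),
  ([31,37,42], (.byRefl 2 339)),
  ([31,39,40,42,46], (.byRoot 25 333)),
  ([32,35,45], (.byRefl 3 338)),
  ([32,38,43,45], (.byRoot 27 340)),
  ([33,42,46], (.byRefl 1 345)),
  ([34,41,46,47], (.byRefl 2 346)),
  ([34,43,45], (.byRefl 2 347)),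
  ([35,41,42,47], (.byRefl 1 348)),
  ([35,42,43,45], (.byRefl 1 349)),
  ([24,26,39,45,46], (.byRefl 2 350)),
  ([24,34,45], (.byRefl 2 362)),
  ([24,40,43], (.byRefl 2 365)),
  ([25,37,41], (.byRefl 3 364)),
  ([25,40,41], (.byRefl 3 365)),
  ([26,28,46], (.byRefl 0 362)),
  ([26,31,38,40,42], (.byRefl 0 361)),
  ([26,31,40,44], (.byRoot 27 360)),
  ([26,31,42], (.byRefl 2 353)),
  ([26,33,42], (.byRefl 1 379))]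

/-- part of the table -/
def moves8 : List (List ℕ × Move) := [
  ([26,35,42], (.byRefl 1 381)),
  ([26,38,46], (.byRoot 25 363)),
  ([27,30,46,47], (.byRefl 2 370)),
  ([27,31,42], (.byRefl 2 372)),
  ([27,32,45], (.byRefl 2 371)),
  ([27,41,47], (.byRefl 2 373)),
  ([28,30,31,47], (.byRefl 0 388)),
  ([28,30,41], (.byRefl 3 374)),
  ([28,31,32,45], (.byRefl 0 389)),
  ([29,31,36,46], (.byRefl 2 375)),
  ([29,32,39,43,45], (.byRoot 27 376)),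
  ([30,34,41], (.byRefl 2 377)),
  ([30,35,47], (.byRefl 3 380)),
  ([30,38,41], (.byRefl 2 378)),
  ([31,34,46], (.byRefl 2 383)),
  ([31,39,42,46], (.byRoot 27 382)),
  ([32,36,43,45], (.byRefl 1 384)),
  ([32,37,43,45], (.byRefl 3 384)),
  ([33,41,46,47], (.byRefl 1 386)),
  ([33,43,45], (.byRefl 2 385)),
  ([34,41,43,47], (.byRefl 2 388)),
  ([34,42,43,46], (.byRefl 2 389)),
  ([24,27,45], (.byRefl 2 395)),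
  ([24,32,39,40,43], (.byRefl 2 396)),
  ([24,33,43], (.byRefl 2 399)),
  ([24,34,43], (.byRefl 2 400)),
  ([24,39,45], (.byRoot 25 390)),
  ([25,30,41], (.byRefl 3 398)),
  ([25,33,41], (.byRefl 1 411)),
  ([25,36,41], (.byRefl 1 413)),
  ([25,37,47], (.byRefl 3 401)),
  ([26,28,31], (.byRefl 0 400)),
  ([26,29,38,46], (.byRefl 1 409)),
  ([26,31,44,46], (.byRoot 35 397)),
  ([26,33,46], (.byRefl 1 414)),
  ([26,40,42,46], (.byRefl 1 415)),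
  ([27,30,32,47], (.byRefl 2 406)),
  ([27,30,41], (.byRefl 2 407)),
  ([27,31,32,46], (.byRefl 2 408)),
  ([29,32,43,45], (.byRoot 35 410)),
  ([30,34,47], (.byRefl 2 412)),
  ([30,39,41,47], (.byRefl 3 415)),
  ([31,36,42,46], (.byRefl 2 416)),
  ([31,37,42,46], (.byRefl 2 417)),
  ([32,35,43,45], (.byRefl 3 416)),
  ([33,41,45,47], (.byRefl 2 418)),
  ([33,42,45,46], (.byRefl 1 421)),
  ([24,27,32], (.byRefl 2 431)),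
  ([24,32,39,40,45], (.byRefl 1 423)),
  ([24,32,44,45], (.byRefl 2 433))]

/-- part of the table -/
def moves9 : List (List ℕ × Move) := [
  ([24,33,45], (.byRefl 2 434)),
  ([24,40,43,45], (.byRefl 2 435)),
  ([25,29,30], (.byRefl 0 429)),
  ([25,30,44,47], (.byRefl 3 433)),
  ([25,33,47], (.byRefl 1 440)),
  ([25,40,41,47], (.byRefl 3 435)),
  ([26,31,38,46], (.byRoot 27 432)),
  ([26,35,42,46], (.byRefl 1 443)),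
  ([26,38,42,46], (.byRefl 1 442)),
  ([28,32,43,45], (.byRefl 3 439)),
  ([29,31,42,46], (.byRefl 2 439)),
  ([30,35,41,47], (.byRefl 3 442)),
  ([30,38,41,47], (.byRefl 2 441)),
  ([31,34,42,46], (.byRefl 2 444)),
  ([24,32,39,45], (.byRoot 27 448)),
  ([24,34,43,45], (.byRefl 2 457)),
  ([24,39,43,45], (.byRefl 1 451)),
  ([25,36,41,47], (.byRefl 1 462)),
  ([25,37,41,47], (.byRefl 3 458)),
  ([26,28,31,46], (.byRefl 0 457)),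
  ([26,31,42,46], (.byRoot 33 456)),
  ([26,33,42,46], (.byRefl 1 463)),
  ([27,31,42,46], (.byRefl 2 459)),
  ([28,30,41,47], (.byRefl 3 460)),
  ([30,34,41,47], (.byRefl 2 461)),
  ([24,27,32,45], (.byRefl 2 469)),
  ([24,32,43,45], (.byRoot 33 464)),
  ([24,33,43,45], (.byRefl 2 471)),
  ([25,29,30,47], (.byRefl 0 467)),
  ([25,30,41,47], (.byRefl 3 470)),
  ([25,33,41,47], (.byRefl 1 474)),
  ([27,30,41,47], (.byRefl 2 473))]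

/-- the table -/
def moves : List (List ℕ × Move) := moves0 ++ (moves1 ++ (moves2 ++ (moves3 ++ (moves4 ++ (moves5 ++ (moves6 ++ (moves7 ++ (moves8 ++ (moves9)))))))))

/-- part of the table -/
def tree0 : List Node := [
  ([], [], .done [] 0),
  ([47], [47], .done [(47,[-2,-2,-2,-2])] 4),
  ([47], [], .split 47 0 1),
  ([46], [46], .done [(46,[-2,-2,-2,-1])] 14),
  ([46,47], [46], .kill 24 47 1 [0,0,0,0,0,0,0,0,0,0,0,0,0,0,0,0,0,0,0,0,0,0,1,0,0] 3),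
  ([46,47], [], .split 46 2 4),
  ([45], [45], .done [(45,[-2,-2,-2,-2])] 32),
  ([45,47], [45], .kill 26 47 1 [0,0,0,0,0,0,0,0,0,0,0,0,0,0,0,0,0,0,0,0,0,1,0,0,0] 6),
  ([45,46,47], [45], .kill 25 46 1 [0,0,0,0,0,0,0,0,0,0,0,0,0,0,0,0,0,0,0,0,0,1,0,0,0] 7),
  ([45,46,47], [], .split 45 5 8),
  ([44], [44], .done [(44,[-2,-2,-2,-2])] 2),
  ([44,47], [44,47], .done [(44,[-2,-2,-2,-2]),(47,[0,-2,-2,-2])] 3),
  ([44,47], [44], .split 47 10 11),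
  ([44,46], [44,46], .done [(44,[-2,-2,-2,-2]),(46,[0,-2,-2,-1])] 13),
  ([44,46,47], [44,46], .kill 24 47 1 [0,0,0,0,0,0,0,0,0,0,0,0,0,0,0,0,0,0,0,0,0,0,1,0,0] 13),
  ([44,46,47], [44], .split 46 12 14),
  ([44,45], [44,45], .done [(44,[-2,-2,-2,-2]),(45,[0,-2,-2,-2])] 31),
  ([44,45,47], [44,45], .kill 26 47 1 [0,0,0,0,0,0,0,0,0,0,0,0,0,0,0,0,0,0,0,0,0,1,0,0,0] 16),
  ([44,45,46,47], [44,45], .kill 25 46 1 [0,0,0,0,0,0,0,0,0,0,0,0,0,0,0,0,0,0,0,0,0,1,0,0,0] 17),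
  ([44,45,46,47], [44], .split 45 15 18),
  ([44,45,46,47], [], .split 44 9 19),
  ([43], [43], .done [(43,[-2,-2,-2,-2])] 58),
  ([43,45], [43,45], .done [(43,[-2,-2,-2,-2]),(45,[-2,-2,0,-2])] 98),
  ([43,45], [43], .split 45 21 22),
  ([43,45,47], [43], .kill 31 47 1 [0,0,0,0,0,0,0,0,0,0,0,0,0,0,0,0,0,0,0,1,0,0,0,0,0] 23),
  ([43,45,46,47], [43], .kill 30 46 1 [0,0,0,0,0,0,0,0,0,0,0,0,0,0,0,0,0,0,0,1,0,0,0,0,0] 24),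
  ([43,44,45,46,47], [43], .kill 27 44 1 [0,0,0,0,0,0,0,0,0,0,0,0,0,0,0,0,0,0,0,1,0,0,0,0,0] 25),
  ([43,44,45,46,47], [], .split 43 20 26),
  ([42], [42], .done [(42,[-2,-2,-2,-2])] 97),
  ([42,46], [42,46], .done [(42,[-2,-2,-2,-2]),(46,[-2,-2,-2,2])] 148),
  ([42,46], [42], .split 46 28 29),
  ([42,46,47], [42], .kill 32 47 1 [0,0,0,0,0,0,0,0,0,0,0,0,0,0,0,0,0,0,1,0,0,0,0,0,0] 30),
  ([42,45,46,47], [42], .kill 30 45 1 [0,0,0,0,0,0,0,0,0,0,0,0,0,0,0,0,0,0,1,0,0,0,0,0,0] 31),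
  ([42,44,45,46,47], [42], .kill 28 44 1 [0,0,0,0,0,0,0,0,0,0,0,0,0,0,0,0,0,0,1,0,0,0,0,0,0] 32),
  ([42,43,44,45,46,47], [42], .kill 25 43 1 [0,0,0,0,0,0,0,0,0,0,0,0,0,0,0,0,0,0,1,0,0,0,0,0,0] 33),
  ([42,43,44,45,46,47], [], .split 42 27 34),
  ([41], [41], .done [(41,[-2,-2,-2,-2])] 147),
  ([41,47], [41,47], .done [(41,[-2,-2,-2,-2]),(47,[-1,-2,-2,-2])] 202),
  ([41,47], [41], .split 47 36 37),
  ([41,46,47], [41], .kill 32 46 1 [0,0,0,0,0,0,0,0,0,0,0,0,0,0,0,0,0,1,0,0,0,0,0,0,0] 38),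
  ([41,45,46,47], [41], .kill 31 45 1 [0,0,0,0,0,0,0,0,0,0,0,0,0,0,0,0,0,1,0,0,0,0,0,0,0] 39),
  ([41,44,45,46,47], [41], .kill 29 44 1 [0,0,0,0,0,0,0,0,0,0,0,0,0,0,0,0,0,1,0,0,0,0,0,0,0] 40),
  ([41,43,44,45,46,47], [41], .kill 26 43 1 [0,0,0,0,0,0,0,0,0,0,0,0,0,0,0,0,0,1,0,0,0,0,0,0,0] 41),
  ([41,42,43,44,45,46,47], [41], .kill 24 42 1 [0,0,0,0,0,0,0,0,0,0,0,0,0,0,0,0,0,1,0,0,0,0,0,0,0] 42),
  ([41,42,43,44,45,46,47], [], .split 41 35 43),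
  ([40], [40], .done [(40,[-2,-1,-2,-2])] 10),
  ([40,47], [40,47], .done [(40,[-2,-1,-2,-2]),(47,[-2,-2,-2,-2])] 12),
  ([40,47], [40], .split 47 45 46),
  ([40,46], [40,46], .done [(40,[-2,-1,-2,-2]),(46,[-2,-2,-2,-1])] 30),
  ([40,46,47], [40,46], .kill 24 47 1 [0,0,0,0,0,0,0,0,0,0,0,0,0,0,0,0,0,0,0,0,0,0,1,0,0] 48)]

/-- part of the table -/
def tree1 : List Node := [
  ([40,46,47], [40], .split 46 47 49),
  ([40,45], [40,45], .done [(40,[-2,-1,-2,-2]),(45,[-2,-2,-2,-2])] 57),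
  ([40,45,47], [40,45], .kill 26 47 1 [0,0,0,0,0,0,0,0,0,0,0,0,0,0,0,0,0,0,0,0,0,1,0,0,0] 51),
  ([40,45,46,47], [40,45], .kill 25 46 1 [0,0,0,0,0,0,0,0,0,0,0,0,0,0,0,0,0,0,0,0,0,1,0,0,0] 52),
  ([40,45,46,47], [40], .split 45 50 53),
  ([40,43], [40,43], .done [(40,[-2,-1,-2,-2]),(43,[-2,-2,-2,-2])] 11),
  ([40,43,45], [40,43,45], .done [(40,[-2,-1,-2,-2]),(43,[-2,-2,-2,-2]),(45,[-2,-2,0,-2])] 55),
  ([40,43,45], [40,43], .split 45 55 56),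
  ([40,43,45,47], [40,43], .kill 31 47 1 [0,0,0,0,0,0,0,0,0,0,0,0,0,0,0,0,0,0,0,1,0,0,0,0,0] 57),
  ([40,43,45,46,47], [40,43], .kill 30 46 1 [0,0,0,0,0,0,0,0,0,0,0,0,0,0,0,0,0,0,0,1,0,0,0,0,0] 58),
  ([40,43,45,46,47], [40], .split 43 54 59),
  ([40,42], [40,42], .done [(40,[-2,-1,-2,-2]),(42,[-2,-2,-2,-2])] 26),
  ([40,42,46], [40,42,46], .done [(40,[-2,-1,-2,-2]),(42,[-2,-2,-2,-2]),(46,[-2,-2,-2,2])] 96),
  ([40,42,46], [40,42], .split 46 61 62),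
  ([40,42,46,47], [40,42], .kill 32 47 1 [0,0,0,0,0,0,0,0,0,0,0,0,0,0,0,0,0,0,1,0,0,0,0,0,0] 63),
  ([40,42,45,46,47], [40,42], .kill 30 45 1 [0,0,0,0,0,0,0,0,0,0,0,0,0,0,0,0,0,0,1,0,0,0,0,0,0] 64),
  ([40,42,43,45,46,47], [40,42], .kill 25 43 1 [0,0,0,0,0,0,0,0,0,0,0,0,0,0,0,0,0,0,1,0,0,0,0,0,0] 65),
  ([40,42,43,45,46,47], [40], .split 42 60 66),
  ([40,41], [40,41], .done [(40,[-2,-1,-2,-2]),(41,[-2,-2,-2,-2])] 51),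
  ([40,41,47], [40,41,47], .done [(40,[-2,-1,-2,-2]),(41,[-2,-2,-2,-2]),(47,[-1,-1,-2,-2])] 145),
  ([40,41,47], [40,41], .split 47 68 69),
  ([40,41,46,47], [40,41], .kill 32 46 1 [0,0,0,0,0,0,0,0,0,0,0,0,0,0,0,0,0,1,0,0,0,0,0,0,0] 70),
  ([40,41,45,46,47], [40,41], .kill 31 45 1 [0,0,0,0,0,0,0,0,0,0,0,0,0,0,0,0,0,1,0,0,0,0,0,0,0] 71),
  ([40,41,43,45,46,47], [40,41], .kill 26 43 1 [0,0,0,0,0,0,0,0,0,0,0,0,0,0,0,0,0,1,0,0,0,0,0,0,0] 72),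
  ([40,41,42,43,45,46,47], [40,41], .kill 24 42 1 [0,0,0,0,0,0,0,0,0,0,0,0,0,0,0,0,0,1,0,0,0,0,0,0,0] 73),
  ([40,41,42,43,45,46,47], [40], .split 41 67 74),
  ([40,41,42,43,44,45,46,47], [40], .kill 33 44 1 [0,0,0,0,0,0,0,0,0,0,0,0,0,0,0,0,1,0,0,0,0,0,0,0,0] 75),
  ([40,41,42,43,44,45,46,47], [], .split 40 44 76),
  ([39], [39], .done [(39,[-2,-2,-1,-2])] 20),
  ([39,47], [39,47], .done [(39,[-2,-2,-1,-2]),(47,[-2,-2,-2,-2])] 25),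
  ([39,47], [39], .split 47 78 79),
  ([39,46], [39,46], .done [(39,[-2,-2,-1,-2]),(46,[-2,-2,-2,-1])] 50),
  ([39,46,47], [39,46], .kill 24 47 1 [0,0,0,0,0,0,0,0,0,0,0,0,0,0,0,0,0,0,0,0,0,0,1,0,0] 81),
  ([39,46,47], [39], .split 46 80 82),
  ([39,45], [39,45], .done [(39,[-2,-2,-1,-2]),(45,[-2,-2,-2,-2])] 1),
  ([39,45,47], [39,45], .kill 26 47 1 [0,0,0,0,0,0,0,0,0,0,0,0,0,0,0,0,0,0,0,0,0,1,0,0,0] 84),
  ([39,45,46,47], [39,45], .kill 25 46 1 [0,0,0,0,0,0,0,0,0,0,0,0,0,0,0,0,0,0,0,0,0,1,0,0,0] 85),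
  ([39,45,46,47], [39], .split 45 83 86),
  ([39,43], [39,43], .done [(39,[-2,-2,-1,-2]),(43,[-2,-2,-2,-2])] 92),
  ([39,43,45], [39,43,45], .done [(39,[-2,-2,-1,-2]),(43,[-2,-2,-2,-2]),(45,[-1,-2,-2,-2])] 93),
  ([39,43,45], [39,43], .split 45 88 89),
  ([39,43,45,47], [39,43], .kill 31 47 1 [0,0,0,0,0,0,0,0,0,0,0,0,0,0,0,0,0,0,0,1,0,0,0,0,0] 90),
  ([39,43,45,46,47], [39,43], .kill 30 46 1 [0,0,0,0,0,0,0,0,0,0,0,0,0,0,0,0,0,0,0,1,0,0,0,0,0] 91),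
  ([39,43,45,46,47], [39], .split 43 87 92),
  ([39,42], [39,42], .done [(39,[-2,-2,-1,-2]),(42,[-2,-2,-2,-2])] 49),
  ([39,42,46], [39,42,46], .done [(39,[-2,-2,-1,-2]),(42,[-2,-2,-2,-2]),(46,[-2,-2,-2,2])] 144),
  ([39,42,46], [39,42], .split 46 94 95),
  ([39,42,46,47], [39,42], .kill 32 47 1 [0,0,0,0,0,0,0,0,0,0,0,0,0,0,0,0,0,0,1,0,0,0,0,0,0] 96),
  ([39,42,45,46,47], [39,42], .kill 30 45 1 [0,0,0,0,0,0,0,0,0,0,0,0,0,0,0,0,0,0,1,0,0,0,0,0,0] 97),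
  ([39,42,43,45,46,47], [39,42], .kill 25 43 1 [0,0,0,0,0,0,0,0,0,0,0,0,0,0,0,0,0,0,1,0,0,0,0,0,0] 98)]

/-- part of the table -/
def tree2 : List Node := [
  ([39,42,43,45,46,47], [39], .split 42 93 99),
  ([39,41], [39,41], .done [(39,[-2,-2,-1,-2]),(41,[-2,-2,-2,-2])] 88),
  ([39,41,47], [39,41,47], .done [(39,[-2,-2,-1,-2]),(41,[-2,-2,-2,-2]),(47,[-1,-2,-2,-2])] 200),
  ([39,41,47], [39,41], .split 47 101 102),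
  ([39,41,46,47], [39,41], .kill 32 46 1 [0,0,0,0,0,0,0,0,0,0,0,0,0,0,0,0,0,1,0,0,0,0,0,0,0] 103),
  ([39,41,45,46,47], [39,41], .kill 31 45 1 [0,0,0,0,0,0,0,0,0,0,0,0,0,0,0,0,0,1,0,0,0,0,0,0,0] 104),
  ([39,41,43,45,46,47], [39,41], .kill 26 43 1 [0,0,0,0,0,0,0,0,0,0,0,0,0,0,0,0,0,1,0,0,0,0,0,0,0] 105),
  ([39,41,42,43,45,46,47], [39,41], .kill 24 42 1 [0,0,0,0,0,0,0,0,0,0,0,0,0,0,0,0,0,1,0,0,0,0,0,0,0] 106),
  ([39,41,42,43,45,46,47], [39], .split 41 100 107),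
  ([39,41,42,43,44,45,46,47], [39], .kill 34 44 1 [0,0,0,0,0,0,0,0,0,0,0,0,0,0,0,1,0,0,0,0,0,0,0,0,0] 108),
  ([39,40,41,42,43,44,45,46,47], [39], .kill 27 40 1 [0,0,0,0,0,0,0,0,0,0,0,0,0,0,0,1,0,0,0,0,0,0,0,0,0] 109),
  ([39,40,41,42,43,44,45,46,47], [], .split 39 77 110),
  ([38], [38], .done [(38,[-2,-2,-2,-2])] 43),
  ([38,47], [38,47], .done [(38,[-2,-2,-2,-2]),(47,[-2,-2,-1,1])] 46),
  ([38,47], [38], .split 47 112 113),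
  ([38,46], [38,46], .done [(38,[-2,-2,-2,-2]),(46,[-2,-2,-2,0])] 5),
  ([38,46,47], [38,46], .kill 24 47 1 [0,0,0,0,0,0,0,0,0,0,0,0,0,0,0,0,0,0,0,0,0,0,1,0,0] 115),
  ([38,46,47], [38], .split 46 114 116),
  ([38,45], [38,45], .done [(38,[-2,-2,-2,-2]),(45,[-2,-2,-2,0])] 87),
  ([38,45,46], [38,45,46], .done [(38,[-2,-2,-2,-2]),(45,[-2,-2,-2,0]),(46,[-2,-1,-2,-1])] 18),
  ([38,45,46], [38,45], .split 46 118 119),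
  ([38,45,46,47], [38,45], .kill 26 47 1 [0,0,0,0,0,0,0,0,0,0,0,0,0,0,0,0,0,0,0,0,0,1,0,0,0] 120),
  ([38,45,46,47], [38], .split 45 117 121),
  ([38,43], [38,43], .done [(38,[-2,-2,-2,-2]),(43,[-2,-2,-2,0])] 86),
  ([38,43,45], [38,43,45], .done [(38,[-2,-2,-2,-2]),(43,[-2,-2,-2,0]),(45,[-2,-2,0,2])] 198),
  ([38,43,45], [38,43], .split 45 123 124),
  ([38,43,45,47], [38,43], .kill 31 47 1 [0,0,0,0,0,0,0,0,0,0,0,0,0,0,0,0,0,0,0,1,0,0,0,0,0] 125),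
  ([38,43,45,46,47], [38,43], .kill 30 46 1 [0,0,0,0,0,0,0,0,0,0,0,0,0,0,0,0,0,0,0,1,0,0,0,0,0] 126),
  ([38,43,45,46,47], [38], .split 43 122 127),
  ([38,42], [38,42], .done [(38,[-2,-2,-2,-2]),(42,[-2,-2,-2,0])] 137),
  ([38,42,46], [38,42,46], .done [(38,[-2,-2,-2,-2]),(42,[-2,-2,-2,0]),(46,[-1,-2,-2,0])] 139),
  ([38,42,46], [38,42], .split 46 129 130),
  ([38,42,43], [38,42,43], .done [(38,[-2,-2,-2,-2]),(42,[-2,-2,-2,0]),(43,[-1,-2,-1,1])] 138),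
  ([38,42,43,46], [38,42,43,46], .done [(38,[-2,-2,-2,-2]),(42,[-2,-2,-2,0]),(43,[-1,-2,-1,1]),(46,[-1,-2,-2,0])] 255),
  ([38,42,43,46], [38,42,43], .split 46 132 133),
  ([38,42,43,46], [38,42], .split 43 131 134),
  ([38,42,43,46,47], [38,42], .kill 32 47 1 [0,0,0,0,0,0,0,0,0,0,0,0,0,0,0,0,0,0,1,0,0,0,0,0,0] 135),
  ([38,42,43,45,46,47], [38,42], .kill 30 45 1 [0,0,0,0,0,0,0,0,0,0,0,0,0,0,0,0,0,0,1,0,0,0,0,0,0] 136),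
  ([38,42,43,45,46,47], [38], .split 42 128 137),
  ([38,41], [38,41], .done [(38,[-2,-2,-2,-2]),(41,[-2,-2,-2,0])] 136),
  ([38,41,47], [38,41,47], .done [(38,[-2,-2,-2,-2]),(41,[-2,-2,-2,0]),(47,[-1,0,-2,-2])] 254),
  ([38,41,47], [38,41], .split 47 139 140),
  ([38,41,46,47], [38,41], .kill 32 46 1 [0,0,0,0,0,0,0,0,0,0,0,0,0,0,0,0,0,1,0,0,0,0,0,0,0] 141),
  ([38,41,45,46,47], [38,41], .kill 31 45 1 [0,0,0,0,0,0,0,0,0,0,0,0,0,0,0,0,0,1,0,0,0,0,0,0,0] 142),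
  ([38,41,43,45,46,47], [38,41], .kill 26 43 1 [0,0,0,0,0,0,0,0,0,0,0,0,0,0,0,0,0,1,0,0,0,0,0,0,0] 143),
  ([38,41,42,43,45,46,47], [38,41], .kill 24 42 1 [0,0,0,0,0,0,0,0,0,0,0,0,0,0,0,0,0,1,0,0,0,0,0,0,0] 144),
  ([38,41,42,43,45,46,47], [38], .split 41 138 145),
  ([38,41,42,43,44,45,46,47], [38], .kill 35 44 1 [0,0,0,0,0,0,0,0,0,0,0,0,0,0,1,0,0,0,0,0,0,0,0,0,0] 146),
  ([38,40,41,42,43,44,45,46,47], [38], .kill 28 40 1 [0,0,0,0,0,0,0,0,0,0,0,0,0,0,1,0,0,0,0,0,0,0,0,0,0] 147),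
  ([38,39,40,41,42,43,44,45,46,47], [38], .kill 25 39 1 [0,0,0,0,0,0,0,0,0,0,0,0,0,0,1,0,0,0,0,0,0,0,0,0,0] 148)]

/-- part of the table -/
def tree3 : List Node := [
  ([38,39,40,41,42,43,44,45,46,47], [], .split 38 111 149),
  ([37], [37], .done [(37,[-2,-2,-2,-1])] 82),
  ([37,47], [37,47], .done [(37,[-2,-2,-2,-1]),(47,[-2,-2,-2,-2])] 17),
  ([37,47], [37], .split 47 151 152),
  ([37,46], [37,46], .done [(37,[-2,-2,-2,-1]),(46,[-2,-2,-1,-2])] 83),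
  ([37,46,47], [37,46,47], .done [(37,[-2,-2,-2,-1]),(46,[-2,-2,-1,-2]),(47,[-2,-2,-2,-2])] 42),
  ([37,46,47], [37,46], .split 47 154 155),
  ([37,46,47], [37], .split 46 153 156),
  ([37,45], [37,45], .done [(37,[-2,-2,-2,-1]),(45,[-2,-2,-2,-2])] 135),
  ([37,45,47], [37,45,47], .done [(37,[-2,-2,-2,-1]),(45,[-2,-2,-2,-2]),(47,[-2,-1,-2,-1])] 41),
  ([37,45,47], [37,45], .split 47 158 159),
  ([37,45,46,47], [37,45], .kill 25 46 1 [0,0,0,0,0,0,0,0,0,0,0,0,0,0,0,0,0,0,0,0,0,1,0,0,0] 160),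
  ([37,45,46,47], [37], .split 45 157 161),
  ([37,43], [37,43], .done [(37,[-2,-2,-2,-1]),(43,[-2,-2,-2,-2])] 134),
  ([37,43,45], [37,43,45], .done [(37,[-2,-2,-2,-1]),(43,[-2,-2,-2,-2]),(45,[-2,-2,0,-2])] 253),
  ([37,43,45], [37,43], .split 45 163 164),
  ([37,43,45,47], [37,43], .kill 31 47 1 [0,0,0,0,0,0,0,0,0,0,0,0,0,0,0,0,0,0,0,1,0,0,0,0,0] 165),
  ([37,43,45,46,47], [37,43], .kill 30 46 1 [0,0,0,0,0,0,0,0,0,0,0,0,0,0,0,0,0,0,0,1,0,0,0,0,0] 166),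
  ([37,43,45,46,47], [37], .split 43 162 167),
  ([37,42], [37,42], .done [(37,[-2,-2,-2,-1]),(42,[-2,-2,-2,-2])] 195),
  ([37,42,46], [37,42,46], .done [(37,[-2,-2,-2,-1]),(42,[-2,-2,-2,-2]),(46,[-2,2,-2,2])] 303),
  ([37,42,46], [37,42], .split 46 169 170),
  ([37,42,46,47], [37,42], .kill 32 47 1 [0,0,0,0,0,0,0,0,0,0,0,0,0,0,0,0,0,0,1,0,0,0,0,0,0] 171),
  ([37,42,45,46,47], [37,42], .kill 30 45 1 [0,0,0,0,0,0,0,0,0,0,0,0,0,0,0,0,0,0,1,0,0,0,0,0,0] 172),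
  ([37,42,43,45,46,47], [37,42], .kill 25 43 1 [0,0,0,0,0,0,0,0,0,0,0,0,0,0,0,0,0,0,1,0,0,0,0,0,0] 173),
  ([37,42,43,45,46,47], [37], .split 42 168 174),
  ([37,41], [37,41], .done [(37,[-2,-2,-2,-1]),(41,[-2,-2,-2,-2])] 192),
  ([37,41,47], [37,41,47], .done [(37,[-2,-2,-2,-1]),(41,[-2,-2,-2,-2]),(47,[-1,-2,-2,-2])] 194),
  ([37,41,47], [37,41], .split 47 176 177),
  ([37,41,43], [37,41,43], .done [(37,[-2,-2,-2,-1]),(41,[-2,-2,-2,-2]),(43,[-1,-2,-1,-2])] 193),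
  ([37,41,43,47], [37,41,43,47], .done [(37,[-2,-2,-2,-1]),(41,[-2,-2,-2,-2]),(43,[-1,-2,-1,-2]),(47,[-1,-2,-2,-2])] 301),
  ([37,41,43,47], [37,41,43], .split 47 179 180),
  ([37,41,43,47], [37,41], .split 43 178 181),
  ([37,41,42], [37,41,42], .done [(37,[-2,-2,-2,-1]),(41,[-2,-2,-2,-2]),(42,[-1,-2,-2,-2])] 250),
  ([37,41,42,47], [37,41,42,47], .done [(37,[-2,-2,-2,-1]),(41,[-2,-2,-2,-2]),(47,[-1,-2,-2,-2]),(42,[0,0,-2,0])] 348),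
  ([37,41,42,47], [37,41,42], .split 47 183 184),
  ([37,41,42,43,47], [37,41,42], .kill 25 43 1 [0,0,0,0,0,0,0,0,0,0,0,0,0,0,0,0,0,0,1,0,0,0,0,0,0] 185),
  ([37,41,42,43,47], [37,41], .split 42 182 186),
  ([37,41,42,43,46,47], [37,41], .kill 32 46 1 [0,0,0,0,0,0,0,0,0,0,0,0,0,0,0,0,0,1,0,0,0,0,0,0,0] 187),
  ([37,41,42,43,45,46,47], [37,41], .kill 31 45 1 [0,0,0,0,0,0,0,0,0,0,0,0,0,0,0,0,0,1,0,0,0,0,0,0,0] 188),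
  ([37,41,42,43,45,46,47], [37], .split 41 175 189),
  ([37,41,42,43,44,45,46,47], [37], .kill 36 44 1 [0,0,0,0,0,0,0,0,0,0,0,0,0,1,0,0,0,0,0,0,0,0,0,0,0] 190),
  ([37,40,41,42,43,44,45,46,47], [37], .kill 29 40 1 [0,0,0,0,0,0,0,0,0,0,0,0,0,1,0,0,0,0,0,0,0,0,0,0,0] 191),
  ([37,39,40,41,42,43,44,45,46,47], [37], .kill 26 39 1 [0,0,0,0,0,0,0,0,0,0,0,0,0,1,0,0,0,0,0,0,0,0,0,0,0] 192),
  ([37,38,39,40,41,42,43,44,45,46,47], [37], .kill 24 38 1 [0,0,0,0,0,0,0,0,0,0,0,0,0,1,0,0,0,0,0,0,0,0,0,0,0] 193),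
  ([37,38,39,40,41,42,43,44,45,46,47], [], .split 37 150 194),
  ([36], [36], .done [(36,[-2,-2,-2,-2])] 76),
  ([36,47], [36,47], .done [(36,[-2,-2,-2,-2]),(47,[-2,-1,-2,1])] 81),
  ([36,47], [36], .split 47 196 197),
  ([36,46], [36,46], .done [(36,[-2,-2,-2,-2]),(46,[-2,-2,-2,0])] 16)]

/-- part of the table -/
def tree4 : List Node := [
  ([36,46,47], [36,46], .kill 24 47 1 [0,0,0,0,0,0,0,0,0,0,0,0,0,0,0,0,0,0,0,0,0,0,1,0,0] 199),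
  ([36,46,47], [36], .split 46 198 200),
  ([36,45], [36,45], .done [(36,[-2,-2,-2,-2]),(45,[-2,-2,-2,0])] 39),
  ([36,45,47], [36,45], .kill 26 47 1 [0,0,0,0,0,0,0,0,0,0,0,0,0,0,0,0,0,0,0,0,0,1,0,0,0] 202),
  ([36,45,46,47], [36,45], .kill 25 46 1 [0,0,0,0,0,0,0,0,0,0,0,0,0,0,0,0,0,0,0,0,0,1,0,0,0] 203),
  ([36,45,46,47], [36], .split 45 201 204),
  ([36,43], [36,43], .done [(36,[-2,-2,-2,-2]),(43,[-2,-2,-2,0])] 133),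
  ([36,43,46], [36,43,46], .done [(36,[-2,-2,-2,-2]),(43,[-2,-2,-2,0]),(46,[-2,-1,2,1])] 38),
  ([36,43,46], [36,43], .split 46 206 207),
  ([36,43,45], [36,43,45], .done [(36,[-2,-2,-2,-2]),(43,[-2,-2,-2,0]),(45,[-2,-2,0,0])] 249),
  ([36,43,45,46], [36,43,45], .kill 25 46 1 [0,0,0,0,0,0,0,0,0,0,0,0,0,0,0,0,0,0,0,0,0,1,0,0,0] 209),
  ([36,43,45,46], [36,43], .split 45 208 210),
  ([36,43,45,46,47], [36,43], .kill 31 47 1 [0,0,0,0,0,0,0,0,0,0,0,0,0,0,0,0,0,0,0,1,0,0,0,0,0] 211),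
  ([36,43,45,46,47], [36], .split 43 205 212),
  ([36,42], [36,42], .done [(36,[-2,-2,-2,-2]),(42,[-2,-2,-2,0])] 190),
  ([36,42,46], [36,42,46], .done [(36,[-2,-2,-2,-2]),(42,[-2,-2,-2,0]),(46,[-2,0,-2,2])] 191),
  ([36,42,46], [36,42], .split 46 214 215),
  ([36,42,45], [36,42,45], .done [(36,[-2,-2,-2,-2]),(42,[-2,-2,-2,0]),(45,[-2,0,-2,2])] 79),
  ([36,42,45,46], [36,42,45,46], .done [(36,[-2,-2,-2,-2]),(42,[-2,-2,-2,0]),(45,[-2,0,-2,2]),(46,[-1,-1,-2,0])] 300),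
  ([36,42,45,46], [36,42,45], .split 46 217 218),
  ([36,42,45,46], [36,42], .split 45 216 219),
  ([36,42,45,46,47], [36,42], .kill 32 47 1 [0,0,0,0,0,0,0,0,0,0,0,0,0,0,0,0,0,0,1,0,0,0,0,0,0] 220),
  ([36,42,43,45,46,47], [36,42], .kill 25 43 1 [0,0,0,0,0,0,0,0,0,0,0,0,0,0,0,0,0,0,1,0,0,0,0,0,0] 221),
  ([36,42,43,45,46,47], [36], .split 42 213 222),
  ([36,41], [36,41], .done [(36,[-2,-2,-2,-2]),(41,[-2,-2,-2,0])] 189),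
  ([36,41,47], [36,41,47], .done [(36,[-2,-2,-2,-2]),(47,[-2,-1,-2,1]),(41,[-2,-2,-2,0])] 299),
  ([36,41,47], [36,41], .split 47 224 225),
  ([36,41,46,47], [36,41], .kill 32 46 1 [0,0,0,0,0,0,0,0,0,0,0,0,0,0,0,0,0,1,0,0,0,0,0,0,0] 226),
  ([36,41,45,46,47], [36,41], .kill 31 45 1 [0,0,0,0,0,0,0,0,0,0,0,0,0,0,0,0,0,1,0,0,0,0,0,0,0] 227),
  ([36,41,43,45,46,47], [36,41], .kill 26 43 1 [0,0,0,0,0,0,0,0,0,0,0,0,0,0,0,0,0,1,0,0,0,0,0,0,0] 228),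
  ([36,41,42,43,45,46,47], [36,41], .kill 24 42 1 [0,0,0,0,0,0,0,0,0,0,0,0,0,0,0,0,0,1,0,0,0,0,0,0,0] 229),
  ([36,41,42,43,45,46,47], [36], .split 41 223 230),
  ([36,41,42,43,44,45,46,47], [36], .kill 37 44 1 [0,0,0,0,0,0,0,0,0,0,0,0,1,0,0,0,0,0,0,0,0,0,0,0,0] 231),
  ([36,40,41,42,43,44,45,46,47], [36], .kill 30 40 1 [0,0,0,0,0,0,0,0,0,0,0,0,1,0,0,0,0,0,0,0,0,0,0,0,0] 232),
  ([36,39,40,41,42,43,44,45,46,47], [36], .kill 28 39 1 [0,0,0,0,0,0,0,0,0,0,0,0,1,0,0,0,0,0,0,0,0,0,0,0,0] 233),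
  ([36,38,39,40,41,42,43,44,45,46,47], [36], .kill 27 38 1 [0,0,0,0,0,0,0,0,0,0,0,0,1,0,0,0,0,0,0,0,0,0,0,0,0] 234),
  ([36,37,38,39,40,41,42,43,44,45,46,47], [36], .sq 44 37 [0,0,0,0,0,0,0,0,0,0,0,0,1,1,0,0,0,0,0,0,0,0,0,0,0] 235),
  ([36,37,38,39,40,41,42,43,44,45,46,47], [], .split 36 195 236),
  ([35], [35], .done [(35,[-2,-2,-2,-1])] 126),
  ([35,47], [35,47], .done [(35,[-2,-2,-2,-1]),(47,[-2,-2,-2,-2])] 37),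
  ([35,47], [35], .split 47 238 239),
  ([35,46], [35,46], .done [(35,[-2,-2,-2,-1]),(46,[-2,-1,-1,-2])] 129),
  ([35,46,47], [35,46,47], .done [(35,[-2,-2,-2,-1]),(46,[-2,-1,-1,-2]),(47,[-2,-2,-2,-2])] 75),
  ([35,46,47], [35,46], .split 47 241 242),
  ([35,46,47], [35], .split 46 240 243),
  ([35,45], [35,45], .done [(35,[-2,-2,-2,-1]),(45,[-2,-2,-2,-2])] 74),
  ([35,45,47], [35,45], .kill 26 47 1 [0,0,0,0,0,0,0,0,0,0,0,0,0,0,0,0,0,0,0,0,0,1,0,0,0] 245),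
  ([35,45,46,47], [35,45], .kill 25 46 1 [0,0,0,0,0,0,0,0,0,0,0,0,0,0,0,0,0,0,0,0,0,1,0,0,0] 246),
  ([35,45,46,47], [35], .split 45 244 247),
  ([35,43], [35,43], .done [(35,[-2,-2,-2,-1]),(43,[-2,-2,-2,-2])] 187)]

/-- part of the table -/
def tree5 : List Node := [
  ([35,43,47], [35,43,47], .done [(35,[-2,-2,-2,-1]),(43,[-2,-2,-2,-2]),(47,[-2,-1,2,1])] 73),
  ([35,43,47], [35,43], .split 47 249 250),
  ([35,43,45], [35,43,45], .done [(35,[-2,-2,-2,-1]),(43,[-2,-2,-2,-2]),(45,[-2,-2,0,0])] 298),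
  ([35,43,45,47], [35,43,45], .kill 26 47 1 [0,0,0,0,0,0,0,0,0,0,0,0,0,0,0,0,0,0,0,0,0,1,0,0,0] 252),
  ([35,43,45,47], [35,43], .split 45 251 253),
  ([35,43,45,46,47], [35,43], .kill 30 46 1 [0,0,0,0,0,0,0,0,0,0,0,0,0,0,0,0,0,0,0,1,0,0,0,0,0] 254),
  ([35,43,45,46,47], [35], .split 43 248 255),
  ([35,42], [35,42], .done [(35,[-2,-2,-2,-1]),(42,[-2,-2,-2,-2])] 247),
  ([35,42,46], [35,42,46], .done [(35,[-2,-2,-2,-1]),(46,[-2,-1,-1,-2]),(42,[-2,-2,-2,-2])] 347),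
  ([35,42,46], [35,42], .split 46 257 258),
  ([35,42,46,47], [35,42], .kill 32 47 1 [0,0,0,0,0,0,0,0,0,0,0,0,0,0,0,0,0,0,1,0,0,0,0,0,0] 259),
  ([35,42,45,46,47], [35,42], .kill 30 45 1 [0,0,0,0,0,0,0,0,0,0,0,0,0,0,0,0,0,0,1,0,0,0,0,0,0] 260),
  ([35,42,43,45,46,47], [35,42], .kill 25 43 1 [0,0,0,0,0,0,0,0,0,0,0,0,0,0,0,0,0,0,1,0,0,0,0,0,0] 261),
  ([35,42,43,45,46,47], [35], .split 42 256 262),
  ([35,41], [35,41], .done [(35,[-2,-2,-2,-1]),(41,[-2,-2,-2,-2])] 245),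
  ([35,41,47], [35,41,47], .done [(35,[-2,-2,-2,-1]),(41,[-2,-2,-2,-2]),(47,[-1,-1,-2,-2])] 246),
  ([35,41,47], [35,41], .split 47 264 265),
  ([35,41,45], [35,41,45], .done [(35,[-2,-2,-2,-1]),(41,[-2,-2,-2,-2]),(45,[-1,0,-1,-2])] 127),
  ([35,41,45,47], [35,41,45,47], .done [(35,[-2,-2,-2,-1]),(41,[-2,-2,-2,-2]),(45,[-1,0,-1,-2]),(47,[-1,-1,-2,-2])] 346),
  ([35,41,45,47], [35,41,45], .split 47 267 268),
  ([35,41,45,47], [35,41], .split 45 266 269),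
  ([35,41,42], [35,41,42], .done [(35,[-2,-2,-2,-1]),(41,[-2,-2,-2,-2]),(42,[-1,-1,-2,-2])] 296),
  ([35,41,42,47], [35,41,42,47], .done [(35,[-2,-2,-2,-1]),(41,[-2,-2,-2,-2]),(47,[-1,-1,-2,-2]),(42,[0,-2,-2,0])] 388),
  ([35,41,42,47], [35,41,42], .split 47 271 272),
  ([35,41,42,45,47], [35,41,42], .kill 30 45 1 [0,0,0,0,0,0,0,0,0,0,0,0,0,0,0,0,0,0,1,0,0,0,0,0,0] 273),
  ([35,41,42,45,47], [35,41], .split 42 270 274),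
  ([35,41,42,45,46,47], [35,41], .kill 32 46 1 [0,0,0,0,0,0,0,0,0,0,0,0,0,0,0,0,0,1,0,0,0,0,0,0,0] 275),
  ([35,41,42,43,45,46,47], [35,41], .kill 26 43 1 [0,0,0,0,0,0,0,0,0,0,0,0,0,0,0,0,0,1,0,0,0,0,0,0,0] 276),
  ([35,41,42,43,45,46,47], [35], .split 41 263 277),
  ([35,41,42,43,44,45,46,47], [35], .kill 38 44 1 [0,0,0,0,0,0,0,0,0,0,0,1,0,0,0,0,0,0,0,0,0,0,0,0,0] 278),
  ([35,40,41,42,43,44,45,46,47], [35], .kill 31 40 1 [0,0,0,0,0,0,0,0,0,0,0,1,0,0,0,0,0,0,0,0,0,0,0,0,0] 279),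
  ([35,39,40,41,42,43,44,45,46,47], [35], .kill 29 39 1 [0,0,0,0,0,0,0,0,0,0,0,1,0,0,0,0,0,0,0,0,0,0,0,0,0] 280),
  ([35,37,39,40,41,42,43,44,45,46,47], [35], .kill 27 37 1 [0,0,0,0,0,0,0,0,0,0,0,1,0,0,0,0,0,0,0,0,0,0,0,0,0] 281),
  ([35,37,38,39,40,41,42,43,44,45,46,47], [35], .sq 44 38 [0,0,0,0,0,0,0,0,0,0,0,1,0,0,1,0,0,0,0,0,0,0,0,0,0] 282),
  ([35,36,37,38,39,40,41,42,43,44,45,46,47], [35], .kill 24 36 1 [0,0,0,0,0,0,0,0,0,0,0,1,0,0,0,0,0,0,0,0,0,0,0,0,0] 283),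
  ([35,36,37,38,39,40,41,42,43,44,45,46,47], [], .split 35 237 284),
  ([34], [34], .done [(34,[-2,-2,-2,-2])] 183),
  ([34,47], [34,47], .done [(34,[-2,-2,-2,-2]),(47,[-2,0,-2,-2])] 72),
  ([34,47], [34], .split 47 286 287),
  ([34,46], [34,46], .done [(34,[-2,-2,-2,-2]),(46,[-2,0,-2,-1])] 125),
  ([34,46,47], [34,46], .kill 24 47 1 [0,0,0,0,0,0,0,0,0,0,0,0,0,0,0,0,0,0,0,0,0,0,1,0,0] 289),
  ([34,46,47], [34], .split 46 288 290),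
  ([34,45], [34,45], .done [(34,[-2,-2,-2,-2]),(45,[-2,0,-2,-2])] 185),
  ([34,45,47], [34,45,47], .done [(34,[-2,-2,-2,-2]),(45,[-2,0,-2,-2]),(47,[-1,-1,-2,-2])] 124),
  ([34,45,47], [34,45], .split 47 292 293),
  ([34,45,46], [34,45,46], .done [(34,[-2,-2,-2,-2]),(45,[-2,0,-2,-2]),(46,[-1,-1,-2,-1])] 186),
  ([34,45,46,47], [34,45,46], .kill 24 47 1 [0,0,0,0,0,0,0,0,0,0,0,0,0,0,0,0,0,0,0,0,0,0,1,0,0] 295),
  ([34,45,46,47], [34,45], .split 46 294 296),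
  ([34,45,46,47], [34], .split 45 291 297),
  ([34,43], [34,43], .done [(34,[-2,-2,-2,-2]),(43,[-1,-1,-2,-2])] 295)]

/-- part of the table -/
def tree6 : List Node := [
  ([34,43,45], [34,43,45], .done [(34,[-2,-2,-2,-2]),(45,[-2,0,-2,-2]),(43,[-1,-1,-2,-2])] 387),
  ([34,43,45], [34,43], .split 45 299 300),
  ([34,43,45,47], [34,43], .kill 31 47 1 [0,0,0,0,0,0,0,0,0,0,0,0,0,0,0,0,0,0,0,1,0,0,0,0,0] 301),
  ([34,43,45,46,47], [34,43], .kill 30 46 1 [0,0,0,0,0,0,0,0,0,0,0,0,0,0,0,0,0,0,0,1,0,0,0,0,0] 302),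
  ([34,43,45,46,47], [34], .split 43 298 303),
  ([34,42], [34,42], .done [(34,[-2,-2,-2,-2]),(42,[-2,0,-2,-2])] 244),
  ([34,42,47], [34,42,47], .done [(34,[-2,-2,-2,-2]),(42,[-2,0,-2,-2]),(47,[-2,0,-2,2])] 123),
  ([34,42,47], [34,42], .split 47 305 306),
  ([34,42,46], [34,42,46], .done [(34,[-2,-2,-2,-2]),(42,[-2,0,-2,-2]),(46,[-2,0,-2,2])] 345),
  ([34,42,46,47], [34,42,46], .kill 24 47 1 [0,0,0,0,0,0,0,0,0,0,0,0,0,0,0,0,0,0,0,0,0,0,1,0,0] 308),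
  ([34,42,46,47], [34,42], .split 46 307 309),
  ([34,42,43], [34,42,43], .done [(34,[-2,-2,-2,-2]),(42,[-2,0,-2,-2]),(43,[-1,-1,-2,0])] 344),
  ([34,42,43,46], [34,42,43,46], .done [(34,[-2,-2,-2,-2]),(42,[-2,0,-2,-2]),(46,[-2,0,-2,2]),(43,[0,-2,-2,-2])] 421),
  ([34,42,43,46], [34,42,43], .split 46 311 312),
  ([34,42,43,46,47], [34,42,43], .kill 31 47 1 [0,0,0,0,0,0,0,0,0,0,0,0,0,0,0,0,0,0,0,1,0,0,0,0,0] 313),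
  ([34,42,43,46,47], [34,42], .split 43 310 314),
  ([34,42,43,45,46,47], [34,42], .kill 30 45 1 [0,0,0,0,0,0,0,0,0,0,0,0,0,0,0,0,0,0,1,0,0,0,0,0,0] 315),
  ([34,42,43,45,46,47], [34], .split 42 304 316),
  ([34,41], [34,41], .done [(34,[-2,-2,-2,-2]),(41,[-2,0,-2,-2])] 293),
  ([34,41,47], [34,41,47], .done [(34,[-2,-2,-2,-2]),(41,[-2,0,-2,-2]),(47,[-1,-1,-2,-2])] 294),
  ([34,41,47], [34,41], .split 47 318 319),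
  ([34,41,46], [34,41,46], .done [(34,[-2,-2,-2,-2]),(41,[-2,0,-2,-2]),(46,[-1,0,-1,-2])] 184),
  ([34,41,46,47], [34,41,46,47], .done [(34,[-2,-2,-2,-2]),(41,[-2,0,-2,-2]),(46,[-1,0,-1,-2]),(47,[-1,-1,-2,-2])] 386),
  ([34,41,46,47], [34,41,46], .split 47 321 322),
  ([34,41,46,47], [34,41], .split 46 320 323),
  ([34,41,43], [34,41,43], .done [(34,[-2,-2,-2,-2]),(41,[-2,0,-2,-2]),(43,[-1,-1,-2,-2])] 343),
  ([34,41,43,47], [34,41,43,47], .done [(34,[-2,-2,-2,-2]),(41,[-2,0,-2,-2]),(47,[-1,-1,-2,-2]),(43,[0,-2,-2,0])] 420),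
  ([34,41,43,47], [34,41,43], .split 47 325 326),
  ([34,41,43,46,47], [34,41,43], .kill 30 46 1 [0,0,0,0,0,0,0,0,0,0,0,0,0,0,0,0,0,0,0,1,0,0,0,0,0] 327),
  ([34,41,43,46,47], [34,41], .split 43 324 328),
  ([34,41,43,45,46,47], [34,41], .kill 31 45 1 [0,0,0,0,0,0,0,0,0,0,0,0,0,0,0,0,0,1,0,0,0,0,0,0,0] 329),
  ([34,41,42,43,45,46,47], [34,41], .kill 24 42 1 [0,0,0,0,0,0,0,0,0,0,0,0,0,0,0,0,0,1,0,0,0,0,0,0,0] 330),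
  ([34,41,42,43,45,46,47], [34], .split 41 317 331),
  ([34,41,42,43,44,45,46,47], [34], .kill 39 44 1 [0,0,0,0,0,0,0,0,0,0,1,0,0,0,0,0,0,0,0,0,0,0,0,0,0] 332),
  ([34,40,41,42,43,44,45,46,47], [34], .kill 32 40 1 [0,0,0,0,0,0,0,0,0,0,1,0,0,0,0,0,0,0,0,0,0,0,0,0,0] 333),
  ([34,38,40,41,42,43,44,45,46,47], [34], .kill 29 38 1 [0,0,0,0,0,0,0,0,0,0,1,0,0,0,0,0,0,0,0,0,0,0,0,0,0] 334),
  ([34,37,38,40,41,42,43,44,45,46,47], [34], .kill 28 37 1 [0,0,0,0,0,0,0,0,0,0,1,0,0,0,0,0,0,0,0,0,0,0,0,0,0] 335),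
  ([34,37,38,39,40,41,42,43,44,45,46,47], [34], .sq 44 39 [0,0,0,0,0,0,0,0,0,0,1,0,0,0,0,1,0,0,0,0,0,0,0,0,0] 336),
  ([34,36,37,38,39,40,41,42,43,44,45,46,47], [34], .kill 26 36 1 [0,0,0,0,0,0,0,0,0,0,1,0,0,0,0,0,0,0,0,0,0,0,0,0,0] 337),
  ([34,35,36,37,38,39,40,41,42,43,44,45,46,47], [34], .kill 25 35 1 [0,0,0,0,0,0,0,0,0,0,1,0,0,0,0,0,0,0,0,0,0,0,0,0,0] 338),
  ([34,35,36,37,38,39,40,41,42,43,44,45,46,47], [], .split 34 285 339),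
  ([33], [33], .done [(33,[-2,-2,-2,-2])] 239),
  ([33,47], [33,47], .done [(33,[-2,-2,-2,-2]),(47,[-1,-2,-2,-2])] 122),
  ([33,47], [33], .split 47 341 342),
  ([33,46], [33,46], .done [(33,[-2,-2,-2,-2]),(46,[-1,-2,-2,-1])] 182),
  ([33,46,47], [33,46], .kill 24 47 1 [0,0,0,0,0,0,0,0,0,0,0,0,0,0,0,0,0,0,0,0,0,0,1,0,0] 344),
  ([33,46,47], [33], .split 46 343 345),
  ([33,45], [33,45], .done [(33,[-2,-2,-2,-2]),(45,[-1,-2,-2,-2])] 243),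
  ([33,45,47], [33,45], .kill 26 47 1 [0,0,0,0,0,0,0,0,0,0,0,0,0,0,0,0,0,0,0,0,0,1,0,0,0] 347),
  ([33,45,46,47], [33,45], .kill 25 46 1 [0,0,0,0,0,0,0,0,0,0,0,0,0,0,0,0,0,0,0,0,0,1,0,0,0] 348)]

/-- part of the table -/
def tree7 : List Node := [
  ([33,45,46,47], [33], .split 45 346 349),
  ([33,43], [33,43], .done [(33,[-2,-2,-2,-2]),(43,[-1,-2,-1,-2])] 241),
  ([33,43,47], [33,43,47], .done [(33,[-2,-2,-2,-2]),(43,[-1,-2,-1,-2]),(47,[-1,-2,-2,-2])] 181),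
  ([33,43,47], [33,43], .split 47 351 352),
  ([33,43,46], [33,43,46], .done [(33,[-2,-2,-2,-2]),(43,[-1,-2,-1,-2]),(46,[-1,-2,-2,-1])] 242),
  ([33,43,46,47], [33,43,46], .kill 24 47 1 [0,0,0,0,0,0,0,0,0,0,0,0,0,0,0,0,0,0,0,0,0,0,1,0,0] 354),
  ([33,43,46,47], [33,43], .split 46 353 355),
  ([33,43,45], [33,43,45], .done [(33,[-2,-2,-2,-2]),(43,[-1,-2,-1,-2]),(45,[-1,-2,-2,-2])] 419),
  ([33,43,45,47], [33,43,45], .kill 26 47 1 [0,0,0,0,0,0,0,0,0,0,0,0,0,0,0,0,0,0,0,0,0,1,0,0,0] 357),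
  ([33,43,45,46,47], [33,43,45], .kill 25 46 1 [0,0,0,0,0,0,0,0,0,0,0,0,0,0,0,0,0,0,0,0,0,1,0,0,0] 358),
  ([33,43,45,46,47], [33,43], .split 45 356 359),
  ([33,43,45,46,47], [33], .split 43 350 360),
  ([33,42], [33,42], .done [(33,[-2,-2,-2,-2]),(42,[-1,-2,-2,-2])] 291),
  ([33,42,47], [33,42,47], .done [(33,[-2,-2,-2,-2]),(42,[-1,-2,-2,-2]),(47,[-1,-2,-1,1])] 180),
  ([33,42,47], [33,42], .split 47 362 363),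
  ([33,42,46], [33,42,46], .done [(33,[-2,-2,-2,-2]),(42,[-1,-2,-2,-2]),(46,[-1,-2,-2,0])] 385),
  ([33,42,46,47], [33,42,46], .kill 24 47 1 [0,0,0,0,0,0,0,0,0,0,0,0,0,0,0,0,0,0,0,0,0,0,1,0,0] 365),
  ([33,42,46,47], [33,42], .split 46 364 366),
  ([33,42,45], [33,42,45], .done [(33,[-2,-2,-2,-2]),(42,[-1,-2,-2,-2]),(45,[-1,-2,-2,0])] 292),
  ([33,42,45,46], [33,42,45,46], .done [(33,[-2,-2,-2,-2]),(42,[-1,-2,-2,-2]),(46,[-1,-2,-2,0]),(45,[0,0,-2,-2])] 446),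
  ([33,42,45,46], [33,42,45], .split 46 368 369),
  ([33,42,45,46,47], [33,42,45], .kill 26 47 1 [0,0,0,0,0,0,0,0,0,0,0,0,0,0,0,0,0,0,0,0,0,1,0,0,0] 370),
  ([33,42,45,46,47], [33,42], .split 45 367 371),
  ([33,42,43,45,46,47], [33,42], .kill 25 43 1 [0,0,0,0,0,0,0,0,0,0,0,0,0,0,0,0,0,0,1,0,0,0,0,0,0] 372),
  ([33,42,43,45,46,47], [33], .split 42 361 373),
  ([33,41], [33,41], .done [(33,[-2,-2,-2,-2]),(41,[-1,-2,-2,-1])] 341),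
  ([33,41,47], [33,41,47], .done [(33,[-2,-2,-2,-2]),(41,[-1,-2,-2,-1]),(47,[-1,-2,-2,-2])] 342),
  ([33,41,47], [33,41], .split 47 375 376),
  ([33,41,46], [33,41,46], .done [(33,[-2,-2,-2,-2]),(41,[-1,-2,-2,-1]),(46,[-1,-2,-1,-2])] 240),
  ([33,41,46,47], [33,41,46,47], .done [(33,[-2,-2,-2,-2]),(41,[-1,-2,-2,-1]),(46,[-1,-2,-1,-2]),(47,[-1,-2,-2,-2])] 418),
  ([33,41,46,47], [33,41,46], .split 47 378 379),
  ([33,41,46,47], [33,41], .split 46 377 380),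
  ([33,41,45], [33,41,45], .done [(33,[-2,-2,-2,-2]),(41,[-1,-2,-2,-1]),(45,[-1,-2,-2,-2])] 290),
  ([33,41,45,47], [33,41,45,47], .done [(33,[-2,-2,-2,-2]),(41,[-1,-2,-2,-1]),(47,[-1,-2,-2,-2]),(45,[0,0,-2,0])] 445),
  ([33,41,45,47], [33,41,45], .split 47 382 383),
  ([33,41,45,46,47], [33,41,45], .kill 25 46 1 [0,0,0,0,0,0,0,0,0,0,0,0,0,0,0,0,0,0,0,0,0,1,0,0,0] 384),
  ([33,41,45,46,47], [33,41], .split 45 381 385),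
  ([33,41,43,45,46,47], [33,41], .kill 26 43 1 [0,0,0,0,0,0,0,0,0,0,0,0,0,0,0,0,0,1,0,0,0,0,0,0,0] 386),
  ([33,41,42,43,45,46,47], [33,41], .kill 24 42 1 [0,0,0,0,0,0,0,0,0,0,0,0,0,0,0,0,0,1,0,0,0,0,0,0,0] 387),
  ([33,41,42,43,45,46,47], [33], .split 41 374 388),
  ([33,41,42,43,44,45,46,47], [33], .kill 40 44 1 [0,0,0,0,0,0,0,0,0,1,0,0,0,0,0,0,0,0,0,0,0,0,0,0,0] 389),
  ([33,39,41,42,43,44,45,46,47], [33], .kill 32 39 1 [0,0,0,0,0,0,0,0,0,1,0,0,0,0,0,0,0,0,0,0,0,0,0,0,0] 390),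
  ([33,38,39,41,42,43,44,45,46,47], [33], .kill 31 38 1 [0,0,0,0,0,0,0,0,0,1,0,0,0,0,0,0,0,0,0,0,0,0,0,0,0] 391),
  ([33,37,38,39,41,42,43,44,45,46,47], [33], .kill 30 37 1 [0,0,0,0,0,0,0,0,0,1,0,0,0,0,0,0,0,0,0,0,0,0,0,0,0] 392),
  ([33,37,38,39,40,41,42,43,44,45,46,47], [33], .sq 44 40 [0,0,0,0,0,0,0,0,0,1,0,0,0,0,0,0,1,0,0,0,0,0,0,0,0] 393),
  ([33,36,37,38,39,40,41,42,43,44,45,46,47], [33], .kill 29 36 1 [0,0,0,0,0,0,0,0,0,1,0,0,0,0,0,0,0,0,0,0,0,0,0,0,0] 394),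
  ([33,35,36,37,38,39,40,41,42,43,44,45,46,47], [33], .kill 28 35 1 [0,0,0,0,0,0,0,0,0,1,0,0,0,0,0,0,0,0,0,0,0,0,0,0,0] 395),
  ([33,34,35,36,37,38,39,40,41,42,43,44,45,46,47], [33], .kill 27 34 1 [0,0,0,0,0,0,0,0,0,1,0,0,0,0,0,0,0,0,0,0,0,0,0,0,0] 396),
  ([33,34,35,36,37,38,39,40,41,42,43,44,45,46,47], [], .split 33 340 397),
  ([32], [32], .done [(32,[-2,-2,-2,-2])] 68)]

/-- part of the table -/
def tree8 : List Node := [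
  ([32,45], [32,45], .done [(32,[-2,-2,-2,-2]),(45,[-1,-2,-2,-2])] 121),
  ([32,45], [32], .split 45 399 400),
  ([32,44], [32,44], .done [(32,[-2,-2,-2,-2]),(44,[-1,-2,-2,-2])] 15),
  ([32,44,45], [32,44,45], .done [(32,[-2,-2,-2,-2]),(44,[-1,-2,-2,-2]),(45,[0,-2,0,-2])] 70),
  ([32,44,45], [32,44], .split 45 402 403),
  ([32,44,45], [32], .split 44 401 404),
  ([32,43], [32,43], .done [(32,[-2,-2,-2,-2]),(43,[-1,-1,-2,-2])] 179),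
  ([32,43,45], [32,43,45], .done [(32,[-2,-2,-2,-2]),(43,[-1,-1,-2,-2]),(45,[-1,-2,-2,-2])] 120),
  ([32,43,45], [32,43], .split 45 406 407),
  ([32,43,44,45], [32,43], .kill 27 44 1 [0,0,0,0,0,0,0,0,0,0,0,0,0,0,0,0,0,0,0,1,0,0,0,0,0] 408),
  ([32,43,44,45], [32], .split 43 405 409),
  ([32,38], [32,38], .done [(32,[-2,-2,-2,-2]),(38,[-1,-2,-2,-2])] 118),
  ([32,38,45], [32,38,45], .done [(32,[-2,-2,-2,-2]),(38,[-1,-2,-2,-2]),(45,[-1,-2,-2,0])] 238),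
  ([32,38,45], [32,38], .split 45 411 412),
  ([32,38,43], [32,38,43], .done [(32,[-2,-2,-2,-2]),(38,[-1,-2,-2,-2]),(43,[-1,-1,-2,-1])] 289),
  ([32,38,43,45], [32,38,43,45], .done [(32,[-2,-2,-2,-2]),(38,[-1,-2,-2,-2]),(43,[-1,-1,-2,-1]),(45,[-1,-2,-2,0])] 384),
  ([32,38,43,45], [32,38,43], .split 45 414 415),
  ([32,38,43,45], [32,38], .split 43 413 416),
  ([32,38,43,44,45], [32,38], .kill 35 44 1 [0,0,0,0,0,0,0,0,0,0,0,0,0,0,1,0,0,0,0,0,0,0,0,0,0] 417),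
  ([32,38,43,44,45], [32], .split 38 410 418),
  ([32,37], [32,37], .done [(32,[-2,-2,-2,-2]),(37,[-1,-2,-2,-1])] 178),
  ([32,37,45], [32,37,45], .done [(32,[-2,-2,-2,-2]),(37,[-1,-2,-2,-1]),(45,[-1,-2,-2,-2])] 287),
  ([32,37,45], [32,37], .split 45 420 421),
  ([32,37,43], [32,37,43], .done [(32,[-2,-2,-2,-2]),(37,[-1,-2,-2,-1]),(43,[-1,-1,-2,-1])] 339),
  ([32,37,43,45], [32,37,43,45], .done [(32,[-2,-2,-2,-2]),(37,[-1,-2,-2,-1]),(43,[-1,-1,-2,-1]),(45,[-1,-2,-2,-2])] 417),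
  ([32,37,43,45], [32,37,43], .split 45 423 424),
  ([32,37,43,45], [32,37], .split 43 422 425),
  ([32,37,43,44,45], [32,37], .kill 36 44 1 [0,0,0,0,0,0,0,0,0,0,0,0,0,1,0,0,0,0,0,0,0,0,0,0,0] 426),
  ([32,37,38,43,44,45], [32,37], .kill 24 38 1 [0,0,0,0,0,0,0,0,0,0,0,0,0,1,0,0,0,0,0,0,0,0,0,0,0] 427),
  ([32,37,38,43,44,45], [32], .split 37 419 428),
  ([32,36], [32,36], .done [(32,[-2,-2,-2,-2]),(36,[-1,-2,-2,-2])] 177),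
  ([32,36,45], [32,36,45], .done [(32,[-2,-2,-2,-2]),(36,[-1,-2,-2,-2]),(45,[-1,-2,-2,-1])] 338),
  ([32,36,45], [32,36], .split 45 430 431),
  ([32,36,43], [32,36,43], .done [(32,[-2,-2,-2,-2]),(36,[-1,-2,-2,-2]),(43,[-1,-1,-2,0])] 286),
  ([32,36,43,45], [32,36,43,45], .done [(32,[-2,-2,-2,-2]),(36,[-1,-2,-2,-2]),(43,[-1,-1,-2,0]),(45,[-1,-2,-2,-1])] 416),
  ([32,36,43,45], [32,36,43], .split 45 433 434),
  ([32,36,43,45], [32,36], .split 43 432 435),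
  ([32,36,43,44,45], [32,36], .kill 37 44 1 [0,0,0,0,0,0,0,0,0,0,0,0,1,0,0,0,0,0,0,0,0,0,0,0,0] 436),
  ([32,36,38,43,44,45], [32,36], .kill 27 38 1 [0,0,0,0,0,0,0,0,0,0,0,0,1,0,0,0,0,0,0,0,0,0,0,0,0] 437),
  ([32,36,37,38,43,44,45], [32,36], .sq 44 37 [0,0,0,0,0,0,0,0,0,0,0,0,1,1,0,0,0,0,0,0,0,0,0,0,0] 438),
  ([32,36,37,38,43,44,45], [32], .split 36 429 439),
  ([32,35], [32,35], .done [(32,[-2,-2,-2,-2]),(35,[-1,-2,-2,-2])] 236),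
  ([32,35,45], [32,35,45], .done [(32,[-2,-2,-2,-2]),(35,[-1,-2,-2,-2]),(45,[-1,-2,-2,-1])] 383),
  ([32,35,45], [32,35], .split 45 441 442),
  ([32,35,43], [32,35,43], .done [(32,[-2,-2,-2,-2]),(35,[-1,-2,-2,-2]),(43,[-1,-1,-2,-2])] 337),
  ([32,35,43,45], [32,35,43,45], .done [(32,[-2,-2,-2,-2]),(35,[-1,-2,-2,-2]),(43,[-1,-1,-2,-2]),(45,[-1,-2,-2,-1])] 444),
  ([32,35,43,45], [32,35,43], .split 45 444 445),
  ([32,35,43,45], [32,35], .split 43 443 446),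
  ([32,35,43,44,45], [32,35], .kill 38 44 1 [0,0,0,0,0,0,0,0,0,0,0,1,0,0,0,0,0,0,0,0,0,0,0,0,0] 447),
  ([32,35,37,43,44,45], [32,35], .kill 27 37 1 [0,0,0,0,0,0,0,0,0,0,0,1,0,0,0,0,0,0,0,0,0,0,0,0,0] 448)]

/-- part of the table -/
def tree9 : List Node := [
  ([32,35,37,38,43,44,45], [32,35], .sq 44 38 [0,0,0,0,0,0,0,0,0,0,0,1,0,0,1,0,0,0,0,0,0,0,0,0,0] 449),
  ([32,35,36,37,38,43,44,45], [32,35], .kill 24 36 1 [0,0,0,0,0,0,0,0,0,0,0,1,0,0,0,0,0,0,0,0,0,0,0,0,0] 450),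
  ([32,35,36,37,38,43,44,45], [32], .split 35 440 451),
  ([32,35,36,37,38,43,44,45,47], [32], .kill 42 47 1 [0,0,0,0,0,0,0,0,1,0,0,0,0,0,0,0,0,0,0,0,0,0,0,0,0] 452),
  ([32,35,36,37,38,43,44,45,46,47], [32], .kill 41 46 1 [0,0,0,0,0,0,0,0,1,0,0,0,0,0,0,0,0,0,0,0,0,0,0,0,0] 453),
  ([32,35,36,37,38,40,43,44,45,46,47], [32], .kill 34 40 1 [0,0,0,0,0,0,0,0,1,0,0,0,0,0,0,0,0,0,0,0,0,0,0,0,0] 454),
  ([32,35,36,37,38,39,40,43,44,45,46,47], [32], .kill 33 39 1 [0,0,0,0,0,0,0,0,1,0,0,0,0,0,0,0,0,0,0,0,0,0,0,0,0] 455),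
  ([32,35,36,37,38,39,40,42,43,44,45,46,47], [32], .sq 47 42 [0,0,0,0,0,0,0,0,1,0,0,0,0,0,0,0,0,0,1,0,0,0,0,0,0] 456),
  ([32,35,36,37,38,39,40,41,42,43,44,45,46,47], [32], .sq 46 41 [0,0,0,0,0,0,0,0,1,0,0,0,0,0,0,0,0,1,0,0,0,0,0,0,0] 457),
  ([32,34,35,36,37,38,39,40,41,42,43,44,45,46,47], [32], .sq 40 34 [0,0,0,0,0,0,0,0,1,0,1,0,0,0,0,0,0,0,0,0,0,0,0,0,0] 458),
  ([32,33,34,35,36,37,38,39,40,41,42,43,44,45,46,47], [32], .sq 39 33 [0,0,0,0,0,0,0,0,1,1,0,0,0,0,0,0,0,0,0,0,0,0,0,0,0] 459),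
  ([32,33,34,35,36,37,38,39,40,41,42,43,44,45,46,47], [], .split 32 398 460),
  ([31], [31], .done [(31,[-2,-2,-2,-1])] 114),
  ([31,46], [31,46], .done [(31,[-2,-2,-2,-1]),(46,[-2,-1,0,-2])] 176),
  ([31,46], [31], .split 46 462 463),
  ([31,44], [31,44], .done [(31,[-2,-2,-2,-1]),(44,[-2,-2,-2,-2])] 34),
  ([31,44,46], [31,44,46], .done [(31,[-2,-2,-2,-1]),(44,[-2,-2,-2,-2]),(46,[0,-2,-2,2])] 117),
  ([31,44,46], [31,44], .split 46 465 466),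
  ([31,44,46], [31], .split 44 464 467),
  ([31,42], [31,42], .done [(31,[-2,-2,-2,-1]),(42,[-2,-2,-2,-2])] 235),
  ([31,42,46], [31,42,46], .done [(31,[-2,-2,-2,-1]),(42,[-2,-2,-2,-2]),(46,[-1,-2,-2,0])] 175),
  ([31,42,46], [31,42], .split 46 469 470),
  ([31,42,44,46], [31,42], .kill 28 44 1 [0,0,0,0,0,0,0,0,0,0,0,0,0,0,0,0,0,0,1,0,0,0,0,0,0] 471),
  ([31,42,44,46], [31], .split 42 468 472),
  ([31,39], [31,39], .done [(31,[-2,-2,-2,-1]),(39,[-2,-2,-1,-1])] 66),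
  ([31,39,46], [31,39,46], .done [(31,[-2,-2,-2,-1]),(39,[-2,-2,-1,-1]),(46,[-1,-2,-2,0])] 174),
  ([31,39,46], [31,39], .split 46 474 475),
  ([31,39,42], [31,39,42], .done [(31,[-2,-2,-2,-1]),(39,[-2,-2,-1,-1]),(42,[-2,-2,-2,-2])] 336),
  ([31,39,42,46], [31,39,42,46], .done [(31,[-2,-2,-2,-1]),(39,[-2,-2,-1,-1]),(42,[-2,-2,-2,-2]),(46,[-1,-2,-2,0])] 415),
  ([31,39,42,46], [31,39,42], .split 46 477 478),
  ([31,39,42,46], [31,39], .split 42 476 479),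
  ([31,39,42,44,46], [31,39], .kill 34 44 1 [0,0,0,0,0,0,0,0,0,0,0,0,0,0,0,1,0,0,0,0,0,0,0,0,0] 480),
  ([31,39,42,44,46], [31], .split 39 473 481),
  ([31,37], [31,37], .done [(31,[-2,-2,-2,-1]),(37,[-2,-2,-1,-1])] 233),
  ([31,37,46], [31,37,46], .done [(31,[-2,-2,-2,-1]),(37,[-2,-2,-1,-1]),(46,[-2,-1,1,-1])] 335),
  ([31,37,46], [31,37], .split 46 483 484),
  ([31,37,42], [31,37,42], .done [(31,[-2,-2,-2,-1]),(37,[-2,-2,-1,-1]),(42,[-2,-2,-2,-2])] 381),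
  ([31,37,42,46], [31,37,42,46], .done [(31,[-2,-2,-2,-1]),(37,[-2,-2,-1,-1]),(46,[-2,-1,1,-1]),(42,[-2,-2,-2,-2])] 443),
  ([31,37,42,46], [31,37,42], .split 46 486 487),
  ([31,37,42,46], [31,37], .split 42 485 488),
  ([31,37,42,44,46], [31,37], .kill 36 44 1 [0,0,0,0,0,0,0,0,0,0,0,0,0,1,0,0,0,0,0,0,0,0,0,0,0] 489),
  ([31,37,39,42,44,46], [31,37], .kill 26 39 1 [0,0,0,0,0,0,0,0,0,0,0,0,0,1,0,0,0,0,0,0,0,0,0,0,0] 490),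
  ([31,37,39,42,44,46], [31], .split 37 482 491),
  ([31,36], [31,36], .done [(31,[-2,-2,-2,-1]),(36,[-2,-2,-2,-2])] 232),
  ([31,36,46], [31,36,46], .done [(31,[-2,-2,-2,-1]),(46,[-2,-1,0,-2]),(36,[-2,-2,-2,-2])] 380),
  ([31,36,46], [31,36], .split 46 493 494),
  ([31,36,42], [31,36,42], .done [(31,[-2,-2,-2,-1]),(36,[-2,-2,-2,-2]),(42,[-2,-2,0,0])] 334),
  ([31,36,42,46], [31,36,42,46], .done [(31,[-2,-2,-2,-1]),(42,[-2,-2,-2,-2]),(46,[-1,-2,-2,0]),(36,[0,0,-2,-2])] 442),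
  ([31,36,42,46], [31,36,42], .split 46 496 497),
  ([31,36,42,46], [31,36], .split 42 495 498)]

/-- part of the table -/
def tree10 : List Node := [
  ([31,36,42,44,46], [31,36], .kill 37 44 1 [0,0,0,0,0,0,0,0,0,0,0,0,1,0,0,0,0,0,0,0,0,0,0,0,0] 499),
  ([31,36,39,42,44,46], [31,36], .kill 28 39 1 [0,0,0,0,0,0,0,0,0,0,0,0,1,0,0,0,0,0,0,0,0,0,0,0,0] 500),
  ([31,36,37,39,42,44,46], [31,36], .sq 44 37 [0,0,0,0,0,0,0,0,0,0,0,0,1,1,0,0,0,0,0,0,0,0,0,0,0] 501),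
  ([31,36,37,39,42,44,46], [31], .split 36 492 502),
  ([31,34], [31,34], .done [(31,[-2,-2,-2,-1]),(34,[-2,-2,-2,-2])] 285),
  ([31,34,46], [31,34,46], .done [(31,[-2,-2,-2,-1]),(34,[-2,-2,-2,-2]),(46,[0,-2,-2,2])] 414),
  ([31,34,46], [31,34], .split 46 504 505),
  ([31,34,42], [31,34,42], .done [(31,[-2,-2,-2,-1]),(34,[-2,-2,-2,-2]),(42,[-1,-1,-2,-2])] 379),
  ([31,34,42,46], [31,34,42,46], .done [(31,[-2,-2,-2,-1]),(34,[-2,-2,-2,-2]),(46,[0,-2,-2,2]),(42,[-1,-1,-2,-2])] 463),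
  ([31,34,42,46], [31,34,42], .split 46 507 508),
  ([31,34,42,46], [31,34], .split 42 506 509),
  ([31,34,42,44,46], [31,34], .kill 39 44 1 [0,0,0,0,0,0,0,0,0,0,1,0,0,0,0,0,0,0,0,0,0,0,0,0,0] 510),
  ([31,34,37,42,44,46], [31,34], .kill 28 37 1 [0,0,0,0,0,0,0,0,0,0,1,0,0,0,0,0,0,0,0,0,0,0,0,0,0] 511),
  ([31,34,37,39,42,44,46], [31,34], .sq 44 39 [0,0,0,0,0,0,0,0,0,0,1,0,0,0,0,1,0,0,0,0,0,0,0,0,0] 512),
  ([31,34,36,37,39,42,44,46], [31,34], .kill 26 36 1 [0,0,0,0,0,0,0,0,0,0,1,0,0,0,0,0,0,0,0,0,0,0,0,0,0] 513),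
  ([31,34,36,37,39,42,44,46], [31], .split 34 503 514),
  ([31,34,36,37,39,42,44,46,47], [31], .kill 43 47 1 [0,0,0,0,0,0,0,1,0,0,0,0,0,0,0,0,0,0,0,0,0,0,0,0,0] 515),
  ([31,34,36,37,39,42,44,45,46,47], [31], .kill 41 45 1 [0,0,0,0,0,0,0,1,0,0,0,0,0,0,0,0,0,0,0,0,0,0,0,0,0] 516),
  ([31,34,36,37,39,40,42,44,45,46,47], [31], .kill 35 40 1 [0,0,0,0,0,0,0,1,0,0,0,0,0,0,0,0,0,0,0,0,0,0,0,0,0] 517),
  ([31,34,36,37,38,39,40,42,44,45,46,47], [31], .kill 33 38 1 [0,0,0,0,0,0,0,1,0,0,0,0,0,0,0,0,0,0,0,0,0,0,0,0,0] 518),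
  ([31,34,36,37,38,39,40,42,43,44,45,46,47], [31], .sq 47 43 [0,0,0,0,0,0,0,1,0,0,0,0,0,0,0,0,0,0,0,1,0,0,0,0,0] 519),
  ([31,34,36,37,38,39,40,41,42,43,44,45,46,47], [31], .sq 45 41 [0,0,0,0,0,0,0,1,0,0,0,0,0,0,0,0,0,1,0,0,0,0,0,0,0] 520),
  ([31,34,35,36,37,38,39,40,41,42,43,44,45,46,47], [31], .sq 40 35 [0,0,0,0,0,0,0,1,0,0,0,1,0,0,0,0,0,0,0,0,0,0,0,0,0] 521),
  ([31,32,34,35,36,37,38,39,40,41,42,43,44,45,46,47], [31], .kill 25 32 1 [0,0,0,0,0,0,0,1,0,0,0,0,0,0,0,0,0,0,0,0,0,0,0,0,0] 522),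
  ([31,32,33,34,35,36,37,38,39,40,41,42,43,44,45,46,47], [31], .sq 38 33 [0,0,0,0,0,0,0,1,0,1,0,0,0,0,0,0,0,0,0,0,0,0,0,0,0] 523),
  ([31,32,33,34,35,36,37,38,39,40,41,42,43,44,45,46,47], [], .split 31 461 524),
  ([30], [30], .done [(30,[-2,-2,-2,-2])] 168),
  ([30,47], [30,47], .done [(30,[-2,-2,-2,-2]),(47,[-2,-1,-2,2])] 229),
  ([30,47], [30], .split 47 526 527),
  ([30,44], [30,44], .done [(30,[-2,-2,-2,-2]),(44,[-2,-2,-2,0])] 65),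
  ([30,44,47], [30,44,47], .done [(30,[-2,-2,-2,-2]),(44,[-2,-2,-2,0]),(47,[0,-1,-2,-2])] 170),
  ([30,44,47], [30,44], .split 47 529 530),
  ([30,44,47], [30], .split 44 528 531),
  ([30,41], [30,41], .done [(30,[-2,-2,-2,-2]),(41,[-2,-2,-2,0])] 282),
  ([30,41,47], [30,41,47], .done [(30,[-2,-2,-2,-2]),(41,[-2,-2,-2,0]),(47,[-1,-2,-2,-2])] 228),
  ([30,41,47], [30,41], .split 47 533 534),
  ([30,41,44,47], [30,41], .kill 29 44 1 [0,0,0,0,0,0,0,0,0,0,0,0,0,0,0,0,0,1,0,0,0,0,0,0,0] 535),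
  ([30,41,44,47], [30], .split 41 532 536),
  ([30,39], [30,39], .done [(30,[-2,-2,-2,-2]),(39,[-2,-2,-1,0])] 113),
  ([30,39,47], [30,39,47], .done [(30,[-2,-2,-2,-2]),(39,[-2,-2,-1,0]),(47,[-2,-1,-1,2])] 227),
  ([30,39,47], [30,39], .split 47 538 539),
  ([30,39,41], [30,39,41], .done [(30,[-2,-2,-2,-2]),(39,[-2,-2,-1,0]),(41,[-2,-2,-2,0])] 378),
  ([30,39,41,47], [30,39,41,47], .done [(30,[-2,-2,-2,-2]),(39,[-2,-2,-1,0]),(41,[-2,-2,-2,0]),(47,[-1,-2,-2,-2])] 441),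
  ([30,39,41,47], [30,39,41], .split 47 541 542),
  ([30,39,41,47], [30,39], .split 41 540 543),
  ([30,39,41,44,47], [30,39], .kill 34 44 1 [0,0,0,0,0,0,0,0,0,0,0,0,0,0,0,1,0,0,0,0,0,0,0,0,0] 544),
  ([30,39,41,44,47], [30], .split 39 537 545),
  ([30,38], [30,38], .done [(30,[-2,-2,-2,-2]),(38,[-2,-2,-1,0])] 169),
  ([30,38,47], [30,38,47], .done [(30,[-2,-2,-2,-2]),(38,[-2,-2,-1,0]),(47,[-2,-1,1,2])] 281),
  ([30,38,47], [30,38], .split 47 547 548)]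

/-- part of the table -/
def tree11 : List Node := [
  ([30,38,41], [30,38,41], .done [(30,[-2,-2,-2,-2]),(38,[-2,-2,-1,0]),(41,[-2,-2,-2,0])] 413),
  ([30,38,41,47], [30,38,41,47], .done [(30,[-2,-2,-2,-2]),(38,[-2,-2,-1,0]),(47,[-2,-1,1,2]),(41,[-2,-2,-2,0])] 462),
  ([30,38,41,47], [30,38,41], .split 47 550 551),
  ([30,38,41,47], [30,38], .split 41 549 552),
  ([30,38,41,44,47], [30,38], .kill 35 44 1 [0,0,0,0,0,0,0,0,0,0,0,0,0,0,1,0,0,0,0,0,0,0,0,0,0] 553),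
  ([30,38,39,41,44,47], [30,38], .kill 25 39 1 [0,0,0,0,0,0,0,0,0,0,0,0,0,0,1,0,0,0,0,0,0,0,0,0,0] 554),
  ([30,38,39,41,44,47], [30], .split 38 546 555),
  ([30,35], [30,35], .done [(30,[-2,-2,-2,-2]),(35,[-2,-2,-2,0])] 280),
  ([30,35,47], [30,35,47], .done [(30,[-2,-2,-2,-2]),(47,[-2,-1,-2,2]),(35,[-2,-2,-2,0])] 412),
  ([30,35,47], [30,35], .split 47 557 558),
  ([30,35,41], [30,35,41], .done [(30,[-2,-2,-2,-2]),(35,[-2,-2,-2,0]),(41,[-2,-2,0,0])] 377),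
  ([30,35,41,47], [30,35,41,47], .done [(30,[-2,-2,-2,-2]),(41,[-2,-2,-2,0]),(47,[-1,-2,-2,-2]),(35,[0,0,-2,0])] 461),
  ([30,35,41,47], [30,35,41], .split 47 560 561),
  ([30,35,41,47], [30,35], .split 41 559 562),
  ([30,35,41,44,47], [30,35], .kill 38 44 1 [0,0,0,0,0,0,0,0,0,0,0,1,0,0,0,0,0,0,0,0,0,0,0,0,0] 563),
  ([30,35,39,41,44,47], [30,35], .kill 29 39 1 [0,0,0,0,0,0,0,0,0,0,0,1,0,0,0,0,0,0,0,0,0,0,0,0,0] 564),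
  ([30,35,38,39,41,44,47], [30,35], .sq 44 38 [0,0,0,0,0,0,0,0,0,0,0,1,0,0,1,0,0,0,0,0,0,0,0,0,0] 565),
  ([30,35,38,39,41,44,47], [30], .split 35 556 566),
  ([30,34], [30,34], .done [(30,[-2,-2,-2,-2]),(34,[-2,-2,-2,0])] 332),
  ([30,34,47], [30,34,47], .done [(30,[-2,-2,-2,-2]),(34,[-2,-2,-2,0]),(47,[-1,0,-1,2])] 440),
  ([30,34,47], [30,34], .split 47 568 569),
  ([30,34,41], [30,34,41], .done [(30,[-2,-2,-2,-2]),(34,[-2,-2,-2,0]),(41,[-1,-1,-2,0])] 411),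
  ([30,34,41,47], [30,34,41,47], .done [(30,[-2,-2,-2,-2]),(34,[-2,-2,-2,0]),(47,[-1,0,-1,2]),(41,[-1,-1,-2,0])] 474),
  ([30,34,41,47], [30,34,41], .split 47 571 572),
  ([30,34,41,47], [30,34], .split 41 570 573),
  ([30,34,41,44,47], [30,34], .kill 39 44 1 [0,0,0,0,0,0,0,0,0,0,1,0,0,0,0,0,0,0,0,0,0,0,0,0,0] 574),
  ([30,34,38,41,44,47], [30,34], .kill 29 38 1 [0,0,0,0,0,0,0,0,0,0,1,0,0,0,0,0,0,0,0,0,0,0,0,0,0] 575),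
  ([30,34,38,39,41,44,47], [30,34], .sq 44 39 [0,0,0,0,0,0,0,0,0,0,1,0,0,0,0,1,0,0,0,0,0,0,0,0,0] 576),
  ([30,34,35,38,39,41,44,47], [30,34], .kill 25 35 1 [0,0,0,0,0,0,0,0,0,0,1,0,0,0,0,0,0,0,0,0,0,0,0,0,0] 577),
  ([30,34,35,38,39,41,44,47], [30], .split 34 567 578),
  ([30,34,35,38,39,41,44,46,47], [30], .kill 43 46 1 [0,0,0,0,0,0,1,0,0,0,0,0,0,0,0,0,0,0,0,0,0,0,0,0,0] 579),
  ([30,34,35,38,39,41,44,45,46,47], [30], .kill 42 45 1 [0,0,0,0,0,0,1,0,0,0,0,0,0,0,0,0,0,0,0,0,0,0,0,0,0] 580),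
  ([30,34,35,38,39,40,41,44,45,46,47], [30], .kill 36 40 1 [0,0,0,0,0,0,1,0,0,0,0,0,0,0,0,0,0,0,0,0,0,0,0,0,0] 581),
  ([30,34,35,37,38,39,40,41,44,45,46,47], [30], .kill 33 37 1 [0,0,0,0,0,0,1,0,0,0,0,0,0,0,0,0,0,0,0,0,0,0,0,0,0] 582),
  ([30,34,35,37,38,39,40,41,43,44,45,46,47], [30], .sq 46 43 [0,0,0,0,0,0,1,0,0,0,0,0,0,0,0,0,0,0,0,1,0,0,0,0,0] 583),
  ([30,34,35,37,38,39,40,41,42,43,44,45,46,47], [30], .sq 45 42 [0,0,0,0,0,0,1,0,0,0,0,0,0,0,0,0,0,0,1,0,0,0,0,0,0] 584),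
  ([30,34,35,36,37,38,39,40,41,42,43,44,45,46,47], [30], .sq 40 36 [0,0,0,0,0,0,1,0,0,0,0,0,1,0,0,0,0,0,0,0,0,0,0,0,0] 585),
  ([30,32,34,35,36,37,38,39,40,41,42,43,44,45,46,47], [30], .kill 26 32 1 [0,0,0,0,0,0,1,0,0,0,0,0,0,0,0,0,0,0,0,0,0,0,0,0,0] 586),
  ([30,31,32,34,35,36,37,38,39,40,41,42,43,44,45,46,47], [30], .kill 24 31 1 [0,0,0,0,0,0,1,0,0,0,0,0,0,0,0,0,0,0,0,0,0,0,0,0,0] 587),
  ([30,31,32,33,34,35,36,37,38,39,40,41,42,43,44,45,46,47], [30], .sq 37 33 [0,0,0,0,0,0,1,0,0,1,0,0,0,0,0,0,0,0,0,0,0,0,0,0,0] 588),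
  ([30,31,32,33,34,35,36,37,38,39,40,41,42,43,44,45,46,47], [], .split 30 525 589),
  ([29], [29], .done [(29,[-2,-2,-2,-1])] 107),
  ([29,47], [29,47], .done [(29,[-2,-2,-2,-1]),(47,[-2,-2,-2,-2])] 112),
  ([29,47], [29], .split 47 591 592),
  ([29,46], [29,46], .done [(29,[-2,-2,-2,-1]),(46,[-2,-2,-1,-2])] 33),
  ([29,46,47], [29,46], .kill 24 47 1 [0,0,0,0,0,0,0,0,0,0,0,0,0,0,0,0,0,0,0,0,0,0,1,0,0] 594),
  ([29,46,47], [29], .split 46 593 595),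
  ([29,45], [29,45], .done [(29,[-2,-2,-2,-1]),(45,[-2,-2,-2,-2])] 63),
  ([29,45,47], [29,45], .kill 26 47 1 [0,0,0,0,0,0,0,0,0,0,0,0,0,0,0,0,0,0,0,0,0,1,0,0,0] 597),
  ([29,45,46,47], [29,45], .kill 25 46 1 [0,0,0,0,0,0,0,0,0,0,0,0,0,0,0,0,0,0,0,0,0,1,0,0,0] 598)]

/-- part of the table -/
def tree12 : List Node := [
  ([29,45,46,47], [29], .split 45 596 599),
  ([29,43], [29,43], .done [(29,[-2,-2,-2,-1]),(43,[-2,-2,-2,-2])] 109),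
  ([29,43,45], [29,43,45], .done [(29,[-2,-2,-2,-1]),(43,[-2,-2,-2,-2]),(45,[-2,-2,0,-2])] 279),
  ([29,43,45], [29,43], .split 45 601 602),
  ([29,43,45,47], [29,43], .kill 31 47 1 [0,0,0,0,0,0,0,0,0,0,0,0,0,0,0,0,0,0,0,1,0,0,0,0,0] 603),
  ([29,43,45,46,47], [29,43], .kill 30 46 1 [0,0,0,0,0,0,0,0,0,0,0,0,0,0,0,0,0,0,0,1,0,0,0,0,0] 604),
  ([29,43,45,46,47], [29], .split 43 600 605),
  ([29,42], [29,42], .done [(29,[-2,-2,-2,-1]),(42,[-2,-2,-2,-2])] 166),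
  ([29,42,46], [29,42,46], .done [(29,[-2,-2,-2,-1]),(46,[-2,-2,-1,-2]),(42,[-2,-2,-2,-2])] 331),
  ([29,42,46], [29,42], .split 46 607 608),
  ([29,42,46,47], [29,42], .kill 32 47 1 [0,0,0,0,0,0,0,0,0,0,0,0,0,0,0,0,0,0,1,0,0,0,0,0,0] 609),
  ([29,42,45,46,47], [29,42], .kill 30 45 1 [0,0,0,0,0,0,0,0,0,0,0,0,0,0,0,0,0,0,1,0,0,0,0,0,0] 610),
  ([29,42,43,45,46,47], [29,42], .kill 25 43 1 [0,0,0,0,0,0,0,0,0,0,0,0,0,0,0,0,0,0,1,0,0,0,0,0,0] 611),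
  ([29,42,43,45,46,47], [29], .split 42 606 612),
  ([29,32], [29,32], .done [(29,[-2,-2,-2,-1]),(32,[-2,-2,-2,-2])] 164),
  ([29,32,46], [29,32,46], .done [(29,[-2,-2,-2,-1]),(32,[-2,-2,-2,-2]),(46,[-1,-2,-2,-1])] 62),
  ([29,32,46], [29,32], .split 46 614 615),
  ([29,32,45], [29,32,45], .done [(29,[-2,-2,-2,-1]),(32,[-2,-2,-2,-2]),(45,[-1,-2,-2,-1])] 278),
  ([29,32,45,46], [29,32,45], .kill 25 46 1 [0,0,0,0,0,0,0,0,0,0,0,0,0,0,0,0,0,0,0,0,0,1,0,0,0] 617),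
  ([29,32,45,46], [29,32], .split 45 616 618),
  ([29,32,43], [29,32,43], .done [(29,[-2,-2,-2,-1]),(32,[-2,-2,-2,-2]),(43,[-1,-1,-2,-1])] 329),
  ([29,32,43,45], [29,32,43,45], .done [(29,[-2,-2,-2,-1]),(32,[-2,-2,-2,-2]),(43,[-1,-1,-2,-1]),(45,[-1,-2,-2,-1])] 439),
  ([29,32,43,45], [29,32,43], .split 45 620 621),
  ([29,32,43,45,46], [29,32,43], .kill 30 46 1 [0,0,0,0,0,0,0,0,0,0,0,0,0,0,0,0,0,0,0,1,0,0,0,0,0] 622),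
  ([29,32,43,45,46], [29,32], .split 43 619 623),
  ([29,32,43,45,46,47], [29,32], .kill 42 47 1 [0,0,0,0,0,0,0,0,1,0,0,0,0,0,0,0,0,0,0,0,0,0,0,0,0] 624),
  ([29,32,42,43,45,46,47], [29,32], .sq 47 42 [0,0,0,0,0,0,0,0,1,0,0,0,0,0,0,0,0,0,1,0,0,0,0,0,0] 625),
  ([29,32,42,43,45,46,47], [29], .split 32 613 626),
  ([29,31], [29,31], .done [(29,[-2,-2,-2,-1]),(31,[-2,-2,-1,-2])] 222),
  ([29,31,46], [29,31,46], .done [(29,[-2,-2,-2,-1]),(31,[-2,-2,-1,-2]),(46,[-2,-1,0,-2])] 224),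
  ([29,31,46], [29,31], .split 46 628 629),
  ([29,31,45], [29,31,45], .done [(29,[-2,-2,-2,-1]),(31,[-2,-2,-1,-2]),(45,[-2,-2,-2,-2])] 108),
  ([29,31,45,46], [29,31,45,46], .done [(29,[-2,-2,-2,-1]),(31,[-2,-2,-1,-2]),(45,[-2,-2,-2,-2]),(46,[0,-1,-2,0])] 327),
  ([29,31,45,46], [29,31,45], .split 46 631 632),
  ([29,31,45,46], [29,31], .split 45 630 633),
  ([29,31,42], [29,31,42], .done [(29,[-2,-2,-2,-1]),(31,[-2,-2,-1,-2]),(42,[-2,-2,-2,-2])] 374),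
  ([29,31,42,46], [29,31,42,46], .done [(29,[-2,-2,-2,-1]),(31,[-2,-2,-1,-2]),(46,[-2,-1,0,-2]),(42,[-2,-2,-2,-2])] 460),
  ([29,31,42,46], [29,31,42], .split 46 635 636),
  ([29,31,42,45,46], [29,31,42], .kill 30 45 1 [0,0,0,0,0,0,0,0,0,0,0,0,0,0,0,0,0,0,1,0,0,0,0,0,0] 637),
  ([29,31,42,45,46], [29,31], .split 42 634 638),
  ([29,31,42,45,46,47], [29,31], .kill 43 47 1 [0,0,0,0,0,0,0,1,0,0,0,0,0,0,0,0,0,0,0,0,0,0,0,0,0] 639),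
  ([29,31,42,43,45,46,47], [29,31], .sq 47 43 [0,0,0,0,0,0,0,1,0,0,0,0,0,0,0,0,0,0,0,1,0,0,0,0,0] 640),
  ([29,31,32,42,43,45,46,47], [29,31], .kill 25 32 1 [0,0,0,0,0,0,0,1,0,0,0,0,0,0,0,0,0,0,0,0,0,0,0,0,0] 641),
  ([29,31,32,42,43,45,46,47], [29], .split 31 627 642),
  ([29,30], [29,30], .done [(29,[-2,-2,-2,-1]),(30,[-2,-2,-2,-2])] 221),
  ([29,30,47], [29,30,47], .done [(29,[-2,-2,-2,-1]),(47,[-2,-2,-2,-2]),(30,[0,-2,-2,0])] 325),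
  ([29,30,47], [29,30], .split 47 644 645),
  ([29,30,46,47], [29,30], .kill 43 46 1 [0,0,0,0,0,0,1,0,0,0,0,0,0,0,0,0,0,0,0,0,0,0,0,0,0] 646),
  ([29,30,45,46,47], [29,30], .kill 42 45 1 [0,0,0,0,0,0,1,0,0,0,0,0,0,0,0,0,0,0,0,0,0,0,0,0,0] 647),
  ([29,30,32,45,46,47], [29,30], .kill 26 32 1 [0,0,0,0,0,0,1,0,0,0,0,0,0,0,0,0,0,0,0,0,0,0,0,0,0] 648)]

/-- part of the table -/
def tree13 : List Node := [
  ([29,30,31,32,45,46,47], [29,30], .kill 24 31 1 [0,0,0,0,0,0,1,0,0,0,0,0,0,0,0,0,0,0,0,0,0,0,0,0,0] 649),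
  ([29,30,31,32,43,45,46,47], [29,30], .sq 46 43 [0,0,0,0,0,0,1,0,0,0,0,0,0,0,0,0,0,0,0,1,0,0,0,0,0] 650),
  ([29,30,31,32,42,43,45,46,47], [29,30], .sq 45 42 [0,0,0,0,0,0,1,0,0,0,0,0,0,0,0,0,0,0,1,0,0,0,0,0,0] 651),
  ([29,30,31,32,42,43,45,46,47], [29], .split 30 643 652),
  ([29,30,31,32,42,43,44,45,46,47], [29], .kill 41 44 1 [0,0,0,0,0,1,0,0,0,0,0,0,0,0,0,0,0,0,0,0,0,0,0,0,0] 653),
  ([29,30,31,32,40,42,43,44,45,46,47], [29], .kill 37 40 1 [0,0,0,0,0,1,0,0,0,0,0,0,0,0,0,0,0,0,0,0,0,0,0,0,0] 654),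
  ([29,30,31,32,39,40,42,43,44,45,46,47], [29], .kill 35 39 1 [0,0,0,0,0,1,0,0,0,0,0,0,0,0,0,0,0,0,0,0,0,0,0,0,0] 655),
  ([29,30,31,32,38,39,40,42,43,44,45,46,47], [29], .kill 34 38 1 [0,0,0,0,0,1,0,0,0,0,0,0,0,0,0,0,0,0,0,0,0,0,0,0,0] 656),
  ([29,30,31,32,38,39,40,41,42,43,44,45,46,47], [29], .sq 44 41 [0,0,0,0,0,1,0,0,0,0,0,0,0,0,0,0,0,1,0,0,0,0,0,0,0] 657),
  ([29,30,31,32,37,38,39,40,41,42,43,44,45,46,47], [29], .sq 40 37 [0,0,0,0,0,1,0,0,0,0,0,0,0,1,0,0,0,0,0,0,0,0,0,0,0] 658),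
  ([29,30,31,32,36,37,38,39,40,41,42,43,44,45,46,47], [29], .kill 33 36 1 [0,0,0,0,0,1,0,0,0,0,0,0,0,0,0,0,0,0,0,0,0,0,0,0,0] 659),
  ([29,30,31,32,35,36,37,38,39,40,41,42,43,44,45,46,47], [29], .sq 39 35 [0,0,0,0,0,1,0,0,0,0,0,1,0,0,0,0,0,0,0,0,0,0,0,0,0] 660),
  ([29,30,31,32,34,35,36,37,38,39,40,41,42,43,44,45,46,47], [29], .sq 38 34 [0,0,0,0,0,1,0,0,0,0,1,0,0,0,0,0,0,0,0,0,0,0,0,0,0] 661),
  ([29,30,31,32,33,34,35,36,37,38,39,40,41,42,43,44,45,46,47], [29], .sq 36 33 [0,0,0,0,0,1,0,0,0,1,0,0,0,0,0,0,0,0,0,0,0,0,0,0,0] 662),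
  ([29,30,31,32,33,34,35,36,37,38,39,40,41,42,43,44,45,46,47], [], .split 29 590 663),
  ([28], [28], .done [(28,[-2,-2,-2,-2])] 158),
  ([28,47], [28,47], .done [(28,[-2,-2,-2,-2]),(47,[-2,-2,-1,1])] 61),
  ([28,47], [28], .split 47 665 666),
  ([28,46], [28,46], .done [(28,[-2,-2,-2,-2]),(46,[-2,-2,-2,0])] 162),
  ([28,46,47], [28,46,47], .done [(28,[-2,-2,-2,-2]),(46,[-2,-2,-2,0]),(47,[0,-2,-2,-2])] 106),
  ([28,46,47], [28,46], .split 47 668 669),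
  ([28,46,47], [28], .split 46 667 670),
  ([28,45], [28,45], .done [(28,[-2,-2,-2,-2]),(45,[-2,-2,-2,0])] 105),
  ([28,45,47], [28,45], .kill 26 47 1 [0,0,0,0,0,0,0,0,0,0,0,0,0,0,0,0,0,0,0,0,0,1,0,0,0] 672),
  ([28,45,46,47], [28,45], .kill 25 46 1 [0,0,0,0,0,0,0,0,0,0,0,0,0,0,0,0,0,0,0,0,0,1,0,0,0] 673),
  ([28,45,46,47], [28], .split 45 671 674),
  ([28,43], [28,43], .done [(28,[-2,-2,-2,-2]),(43,[-2,-2,-2,0])] 160),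
  ([28,43,45], [28,43,45], .done [(28,[-2,-2,-2,-2]),(43,[-2,-2,-2,0]),(45,[-2,-2,0,2])] 324),
  ([28,43,45], [28,43], .split 45 676 677),
  ([28,43,45,47], [28,43], .kill 31 47 1 [0,0,0,0,0,0,0,0,0,0,0,0,0,0,0,0,0,0,0,1,0,0,0,0,0] 678),
  ([28,43,45,46,47], [28,43], .kill 30 46 1 [0,0,0,0,0,0,0,0,0,0,0,0,0,0,0,0,0,0,0,1,0,0,0,0,0] 679),
  ([28,43,45,46,47], [28], .split 43 675 680),
  ([28,41], [28,41], .done [(28,[-2,-2,-2,-2]),(41,[-2,-2,-2,0])] 220),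
  ([28,41,47], [28,41,47], .done [(28,[-2,-2,-2,-2]),(47,[-2,-2,-1,1]),(41,[-2,-2,-2,0])] 373),
  ([28,41,47], [28,41], .split 47 682 683),
  ([28,41,46,47], [28,41], .kill 32 46 1 [0,0,0,0,0,0,0,0,0,0,0,0,0,0,0,0,0,1,0,0,0,0,0,0,0] 684),
  ([28,41,45,46,47], [28,41], .kill 31 45 1 [0,0,0,0,0,0,0,0,0,0,0,0,0,0,0,0,0,1,0,0,0,0,0,0,0] 685),
  ([28,41,43,45,46,47], [28,41], .kill 26 43 1 [0,0,0,0,0,0,0,0,0,0,0,0,0,0,0,0,0,1,0,0,0,0,0,0,0] 686),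
  ([28,41,43,45,46,47], [28], .split 41 681 687),
  ([28,32], [28,32], .done [(28,[-2,-2,-2,-2]),(32,[-2,-2,-2,0])] 219),
  ([28,32,47], [28,32,47], .done [(28,[-2,-2,-2,-2]),(32,[-2,-2,-2,0]),(47,[-1,-2,-2,-1])] 104),
  ([28,32,47], [28,32], .split 47 689 690),
  ([28,32,45], [28,32,45], .done [(28,[-2,-2,-2,-2]),(32,[-2,-2,-2,0]),(45,[-1,-2,-2,-1])] 323),
  ([28,32,45,47], [28,32,45], .kill 26 47 1 [0,0,0,0,0,0,0,0,0,0,0,0,0,0,0,0,0,0,0,0,0,1,0,0,0] 692),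
  ([28,32,45,47], [28,32], .split 45 691 693),
  ([28,32,43], [28,32,43], .done [(28,[-2,-2,-2,-2]),(32,[-2,-2,-2,0]),(43,[-1,-1,-2,-1])] 372),
  ([28,32,43,45], [28,32,43,45], .done [(28,[-2,-2,-2,-2]),(32,[-2,-2,-2,0]),(43,[-1,-1,-2,-1]),(45,[-1,-2,-2,-1])] 459),
  ([28,32,43,45], [28,32,43], .split 45 695 696),
  ([28,32,43,45,47], [28,32,43], .kill 31 47 1 [0,0,0,0,0,0,0,0,0,0,0,0,0,0,0,0,0,0,0,1,0,0,0,0,0] 697),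
  ([28,32,43,45,47], [28,32], .split 43 694 698)]

/-- part of the table -/
def tree14 : List Node := [
  ([28,32,43,45,46,47], [28,32], .kill 41 46 1 [0,0,0,0,0,0,0,0,1,0,0,0,0,0,0,0,0,0,0,0,0,0,0,0,0] 699),
  ([28,32,41,43,45,46,47], [28,32], .sq 46 41 [0,0,0,0,0,0,0,0,1,0,0,0,0,0,0,0,0,1,0,0,0,0,0,0,0] 700),
  ([28,32,41,43,45,46,47], [28], .split 32 688 701),
  ([28,31], [28,31], .done [(28,[-2,-2,-2,-2]),(31,[-2,-2,-2,0])] 275),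
  ([28,31,46], [28,31,46], .done [(28,[-2,-2,-2,-2]),(46,[-2,-2,-2,0]),(31,[0,-2,-2,-2])] 371),
  ([28,31,46], [28,31], .split 46 703 704),
  ([28,31,46,47], [28,31], .kill 43 47 1 [0,0,0,0,0,0,0,1,0,0,0,0,0,0,0,0,0,0,0,0,0,0,0,0,0] 705),
  ([28,31,45,46,47], [28,31], .kill 41 45 1 [0,0,0,0,0,0,0,1,0,0,0,0,0,0,0,0,0,0,0,0,0,0,0,0,0] 706),
  ([28,31,32,45,46,47], [28,31], .kill 25 32 1 [0,0,0,0,0,0,0,1,0,0,0,0,0,0,0,0,0,0,0,0,0,0,0,0,0] 707),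
  ([28,31,32,43,45,46,47], [28,31], .sq 47 43 [0,0,0,0,0,0,0,1,0,0,0,0,0,0,0,0,0,0,0,1,0,0,0,0,0] 708),
  ([28,31,32,41,43,45,46,47], [28,31], .sq 45 41 [0,0,0,0,0,0,0,1,0,0,0,0,0,0,0,0,0,1,0,0,0,0,0,0,0] 709),
  ([28,31,32,41,43,45,46,47], [28], .split 31 702 710),
  ([28,30], [28,30], .done [(28,[-2,-2,-2,-2]),(30,[-2,-2,-1,1])] 273),
  ([28,30,47], [28,30,47], .done [(28,[-2,-2,-2,-2]),(30,[-2,-2,-1,1]),(47,[-2,-1,0,2])] 274),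
  ([28,30,47], [28,30], .split 47 712 713),
  ([28,30,45], [28,30,45], .done [(28,[-2,-2,-2,-2]),(30,[-2,-2,-1,1]),(45,[-2,-2,-2,0])] 159),
  ([28,30,45,47], [28,30,45,47], .done [(28,[-2,-2,-2,-2]),(30,[-2,-2,-1,1]),(45,[-2,-2,-2,0]),(47,[0,-1,-2,-2])] 370),
  ([28,30,45,47], [28,30,45], .split 47 715 716),
  ([28,30,45,47], [28,30], .split 45 714 717),
  ([28,30,41], [28,30,41], .done [(28,[-2,-2,-2,-2]),(30,[-2,-2,-1,1]),(41,[-2,-2,-2,0])] 407),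
  ([28,30,41,47], [28,30,41,47], .done [(28,[-2,-2,-2,-2]),(30,[-2,-2,-1,1]),(47,[-2,-1,0,2]),(41,[-2,-2,-2,0])] 473),
  ([28,30,41,47], [28,30,41], .split 47 719 720),
  ([28,30,41,45,47], [28,30,41], .kill 31 45 1 [0,0,0,0,0,0,0,0,0,0,0,0,0,0,0,0,0,1,0,0,0,0,0,0,0] 721),
  ([28,30,41,45,47], [28,30], .split 41 718 722),
  ([28,30,31], [28,30,31], .done [(28,[-2,-2,-2,-2]),(30,[-2,-2,-1,1]),(31,[-2,-2,-2,0])] 321),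
  ([28,30,31,47], [28,30,31,47], .done [(28,[-2,-2,-2,-2]),(30,[-2,-2,-1,1]),(47,[-2,-1,0,2]),(31,[-2,-2,-2,0])] 406),
  ([28,30,31,47], [28,30,31], .split 47 724 725),
  ([28,30,31,45,47], [28,30,31], .kill 41 45 1 [0,0,0,0,0,0,0,1,0,0,0,0,0,0,0,0,0,0,0,0,0,0,0,0,0] 726),
  ([28,30,31,41,45,47], [28,30,31], .sq 45 41 [0,0,0,0,0,0,0,1,0,0,0,0,0,0,0,0,0,1,0,0,0,0,0,0,0] 727),
  ([28,30,31,41,45,47], [28,30], .split 31 723 728),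
  ([28,30,31,41,45,46,47], [28,30], .kill 43 46 1 [0,0,0,0,0,0,1,0,0,0,0,0,0,0,0,0,0,0,0,0,0,0,0,0,0] 729),
  ([28,30,31,41,43,45,46,47], [28,30], .sq 46 43 [0,0,0,0,0,0,1,0,0,0,0,0,0,0,0,0,0,0,0,1,0,0,0,0,0] 730),
  ([28,30,31,32,41,43,45,46,47], [28,30], .kill 26 32 1 [0,0,0,0,0,0,1,0,0,0,0,0,0,0,0,0,0,0,0,0,0,0,0,0,0] 731),
  ([28,30,31,32,41,43,45,46,47], [28], .split 30 711 732),
  ([28,30,31,32,41,43,44,45,46,47], [28], .kill 42 44 1 [0,0,0,0,1,0,0,0,0,0,0,0,0,0,0,0,0,0,0,0,0,0,0,0,0] 733),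
  ([28,30,31,32,40,41,43,44,45,46,47], [28], .kill 38 40 1 [0,0,0,0,1,0,0,0,0,0,0,0,0,0,0,0,0,0,0,0,0,0,0,0,0] 734),
  ([28,30,31,32,39,40,41,43,44,45,46,47], [28], .kill 36 39 1 [0,0,0,0,1,0,0,0,0,0,0,0,0,0,0,0,0,0,0,0,0,0,0,0,0] 735),
  ([28,30,31,32,37,39,40,41,43,44,45,46,47], [28], .kill 34 37 1 [0,0,0,0,1,0,0,0,0,0,0,0,0,0,0,0,0,0,0,0,0,0,0,0,0] 736),
  ([28,30,31,32,37,39,40,41,42,43,44,45,46,47], [28], .sq 44 42 [0,0,0,0,1,0,0,0,0,0,0,0,0,0,0,0,0,0,1,0,0,0,0,0,0] 737),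
  ([28,30,31,32,37,38,39,40,41,42,43,44,45,46,47], [28], .sq 40 38 [0,0,0,0,1,0,0,0,0,0,0,0,0,0,1,0,0,0,0,0,0,0,0,0,0] 738),
  ([28,30,31,32,35,37,38,39,40,41,42,43,44,45,46,47], [28], .kill 33 35 1 [0,0,0,0,1,0,0,0,0,0,0,0,0,0,0,0,0,0,0,0,0,0,0,0,0] 739),
  ([28,30,31,32,35,36,37,38,39,40,41,42,43,44,45,46,47], [28], .sq 39 36 [0,0,0,0,1,0,0,0,0,0,0,0,1,0,0,0,0,0,0,0,0,0,0,0,0] 740),
  ([28,29,30,31,32,35,36,37,38,39,40,41,42,43,44,45,46,47], [28], .kill 24 29 1 [0,0,0,0,1,0,0,0,0,0,0,0,0,0,0,0,0,0,0,0,0,0,0,0,0] 741),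
  ([28,29,30,31,32,34,35,36,37,38,39,40,41,42,43,44,45,46,47], [28], .sq 37 34 [0,0,0,0,1,0,0,0,0,0,1,0,0,0,0,0,0,0,0,0,0,0,0,0,0] 742),
  ([28,29,30,31,32,33,34,35,36,37,38,39,40,41,42,43,44,45,46,47], [28], .sq 35 33 [0,0,0,0,1,0,0,0,0,1,0,0,0,0,0,0,0,0,0,0,0,0,0,0,0] 743),
  ([28,29,30,31,32,33,34,35,36,37,38,39,40,41,42,43,44,45,46,47], [], .split 28 664 744),
  ([27], [27], .done [(27,[-2,-2,-1,-2])] 214),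
  ([27,47], [27,47], .done [(27,[-2,-2,-1,-2]),(47,[-2,-2,-2,-2])] 103),
  ([27,47], [27], .split 47 746 747),
  ([27,46], [27,46], .done [(27,[-2,-2,-1,-2]),(46,[-2,-2,-2,-1])] 157)]

/-- part of the table -/
def tree15 : List Node := [
  ([27,46,47], [27,46], .kill 24 47 1 [0,0,0,0,0,0,0,0,0,0,0,0,0,0,0,0,0,0,0,0,0,0,1,0,0] 749),
  ([27,46,47], [27], .split 46 748 750),
  ([27,45], [27,45], .done [(27,[-2,-2,-1,-2]),(45,[-2,-2,-2,-2])] 217),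
  ([27,45,47], [27,45,47], .done [(27,[-2,-2,-1,-2]),(45,[-2,-2,-2,-2]),(47,[0,-1,-2,-2])] 156),
  ([27,45,47], [27,45], .split 47 752 753),
  ([27,45,46], [27,45,46], .done [(27,[-2,-2,-1,-2]),(45,[-2,-2,-2,-2]),(46,[0,-1,-2,-1])] 218),
  ([27,45,46,47], [27,45,46], .kill 24 47 1 [0,0,0,0,0,0,0,0,0,0,0,0,0,0,0,0,0,0,0,0,0,0,1,0,0] 755),
  ([27,45,46,47], [27,45], .split 46 754 756),
  ([27,45,46,47], [27], .split 45 751 757),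
  ([27,42], [27,42], .done [(27,[-2,-2,-1,-2]),(42,[-2,-2,-2,-2])] 216),
  ([27,42,46], [27,42,46], .done [(27,[-2,-2,-1,-2]),(42,[-2,-2,-2,-2]),(46,[-2,-2,-2,2])] 369),
  ([27,42,46], [27,42], .split 46 759 760),
  ([27,42,46,47], [27,42], .kill 32 47 1 [0,0,0,0,0,0,0,0,0,0,0,0,0,0,0,0,0,0,1,0,0,0,0,0,0] 761),
  ([27,42,45,46,47], [27,42], .kill 30 45 1 [0,0,0,0,0,0,0,0,0,0,0,0,0,0,0,0,0,0,1,0,0,0,0,0,0] 762),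
  ([27,42,45,46,47], [27], .split 42 758 763),
  ([27,41], [27,41], .done [(27,[-2,-2,-1,-2]),(41,[-2,-2,-2,-2])] 272),
  ([27,41,47], [27,41,47], .done [(27,[-2,-2,-1,-2]),(41,[-2,-2,-2,-2]),(47,[-1,-1,-1,-2])] 405),
  ([27,41,47], [27,41], .split 47 765 766),
  ([27,41,46,47], [27,41], .kill 32 46 1 [0,0,0,0,0,0,0,0,0,0,0,0,0,0,0,0,0,1,0,0,0,0,0,0,0] 767),
  ([27,41,45,46,47], [27,41], .kill 31 45 1 [0,0,0,0,0,0,0,0,0,0,0,0,0,0,0,0,0,1,0,0,0,0,0,0,0] 768),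
  ([27,41,42,45,46,47], [27,41], .kill 24 42 1 [0,0,0,0,0,0,0,0,0,0,0,0,0,0,0,0,0,1,0,0,0,0,0,0,0] 769),
  ([27,41,42,45,46,47], [27], .split 41 764 770),
  ([27,32], [27,32], .done [(27,[-2,-2,-1,-2]),(32,[-2,-2,-2,-2])] 320),
  ([27,32,45], [27,32,45], .done [(27,[-2,-2,-1,-2]),(45,[-2,-2,-2,-2]),(32,[0,-1,-2,-2])] 404),
  ([27,32,45], [27,32], .split 45 772 773),
  ([27,32,45,47], [27,32], .kill 42 47 1 [0,0,0,0,0,0,0,0,1,0,0,0,0,0,0,0,0,0,0,0,0,0,0,0,0] 774),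
  ([27,32,45,46,47], [27,32], .kill 41 46 1 [0,0,0,0,0,0,0,0,1,0,0,0,0,0,0,0,0,0,0,0,0,0,0,0,0] 775),
  ([27,32,42,45,46,47], [27,32], .sq 47 42 [0,0,0,0,0,0,0,0,1,0,0,0,0,0,0,0,0,0,1,0,0,0,0,0,0] 776),
  ([27,32,41,42,45,46,47], [27,32], .sq 46 41 [0,0,0,0,0,0,0,0,1,0,0,0,0,0,0,0,0,1,0,0,0,0,0,0,0] 777),
  ([27,32,41,42,45,46,47], [27], .split 32 771 778),
  ([27,31], [27,31], .done [(27,[-2,-2,-1,-2]),(31,[-2,-2,-2,-1])] 271),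
  ([27,31,47], [27,31,47], .done [(27,[-2,-2,-1,-2]),(31,[-2,-2,-2,-1]),(47,[-2,-2,-2,-2])] 155),
  ([27,31,47], [27,31], .split 47 780 781),
  ([27,31,46], [27,31,46], .done [(27,[-2,-2,-1,-2]),(31,[-2,-2,-2,-1]),(46,[-2,-1,0,-2])] 368),
  ([27,31,46,47], [27,31,46], .kill 24 47 1 [0,0,0,0,0,0,0,0,0,0,0,0,0,0,0,0,0,0,0,0,0,0,1,0,0] 783),
  ([27,31,46,47], [27,31], .split 46 782 784),
  ([27,31,42], [27,31,42], .done [(27,[-2,-2,-1,-2]),(31,[-2,-2,-2,-1]),(42,[-2,-2,-2,-2])] 403),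
  ([27,31,42,46], [27,31,42,46], .done [(27,[-2,-2,-1,-2]),(31,[-2,-2,-2,-1]),(46,[-2,-1,0,-2]),(42,[-2,-2,-2,-2])] 472),
  ([27,31,42,46], [27,31,42], .split 46 786 787),
  ([27,31,42,46,47], [27,31,42], .kill 32 47 1 [0,0,0,0,0,0,0,0,0,0,0,0,0,0,0,0,0,0,1,0,0,0,0,0,0] 788),
  ([27,31,42,46,47], [27,31], .split 42 785 789),
  ([27,31,32], [27,31,32], .done [(27,[-2,-2,-1,-2]),(31,[-2,-2,-2,-1]),(32,[-2,-2,-2,-2])] 367),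
  ([27,31,32,46], [27,31,32,46], .done [(27,[-2,-2,-1,-2]),(31,[-2,-2,-2,-1]),(46,[-2,-1,0,-2]),(32,[-2,-2,-2,-2])] 438),
  ([27,31,32,46], [27,31,32], .split 46 791 792),
  ([27,31,32,46,47], [27,31,32], .kill 42 47 1 [0,0,0,0,0,0,0,0,1,0,0,0,0,0,0,0,0,0,0,0,0,0,0,0,0] 793),
  ([27,31,32,42,46,47], [27,31,32], .sq 47 42 [0,0,0,0,0,0,0,0,1,0,0,0,0,0,0,0,0,0,1,0,0,0,0,0,0] 794),
  ([27,31,32,42,46,47], [27,31], .split 32 790 795),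
  ([27,31,32,42,45,46,47], [27,31], .kill 41 45 1 [0,0,0,0,0,0,0,1,0,0,0,0,0,0,0,0,0,0,0,0,0,0,0,0,0] 796),
  ([27,31,32,41,42,45,46,47], [27,31], .sq 45 41 [0,0,0,0,0,0,0,1,0,0,0,0,0,0,0,0,0,1,0,0,0,0,0,0,0] 797),
  ([27,31,32,41,42,45,46,47], [27], .split 31 779 798)]

/-- part of the table -/
def tree16 : List Node := [
  ([27,30], [27,30], .done [(27,[-2,-2,-1,-2]),(30,[-2,-2,-2,-2])] 318),
  ([27,30,47], [27,30,47], .done [(27,[-2,-2,-1,-2]),(30,[-2,-2,-2,-2]),(47,[-2,-1,0,2])] 319),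
  ([27,30,47], [27,30], .split 47 800 801),
  ([27,30,46], [27,30,46], .done [(27,[-2,-2,-1,-2]),(30,[-2,-2,-2,-2]),(46,[-2,-2,-2,0])] 215),
  ([27,30,46,47], [27,30,46,47], .done [(27,[-2,-2,-1,-2]),(30,[-2,-2,-2,-2]),(46,[-2,-2,-2,0]),(47,[0,-1,-2,-2])] 402),
  ([27,30,46,47], [27,30,46], .split 47 803 804),
  ([27,30,46,47], [27,30], .split 46 802 805),
  ([27,30,41], [27,30,41], .done [(27,[-2,-2,-1,-2]),(30,[-2,-2,-2,-2]),(41,[-2,-2,-2,0])] 437),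
  ([27,30,41,47], [27,30,41,47], .done [(27,[-2,-2,-1,-2]),(30,[-2,-2,-2,-2]),(47,[-2,-1,0,2]),(41,[-2,-2,-2,0])] 481),
  ([27,30,41,47], [27,30,41], .split 47 807 808),
  ([27,30,41,46,47], [27,30,41], .kill 32 46 1 [0,0,0,0,0,0,0,0,0,0,0,0,0,0,0,0,0,1,0,0,0,0,0,0,0] 809),
  ([27,30,41,46,47], [27,30], .split 41 806 810),
  ([27,30,32], [27,30,32], .done [(27,[-2,-2,-1,-2]),(30,[-2,-2,-2,-2]),(32,[-2,-2,-2,0])] 366),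
  ([27,30,32,47], [27,30,32,47], .done [(27,[-2,-2,-1,-2]),(30,[-2,-2,-2,-2]),(47,[-2,-1,0,2]),(32,[-2,-2,-2,0])] 436),
  ([27,30,32,47], [27,30,32], .split 47 812 813),
  ([27,30,32,46,47], [27,30,32], .kill 41 46 1 [0,0,0,0,0,0,0,0,1,0,0,0,0,0,0,0,0,0,0,0,0,0,0,0,0] 814),
  ([27,30,32,41,46,47], [27,30,32], .sq 46 41 [0,0,0,0,0,0,0,0,1,0,0,0,0,0,0,0,0,1,0,0,0,0,0,0,0] 815),
  ([27,30,32,41,46,47], [27,30], .split 32 811 816),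
  ([27,30,32,41,45,46,47], [27,30], .kill 42 45 1 [0,0,0,0,0,0,1,0,0,0,0,0,0,0,0,0,0,0,0,0,0,0,0,0,0] 817),
  ([27,30,32,41,42,45,46,47], [27,30], .sq 45 42 [0,0,0,0,0,0,1,0,0,0,0,0,0,0,0,0,0,0,1,0,0,0,0,0,0] 818),
  ([27,30,31,32,41,42,45,46,47], [27,30], .kill 24 31 1 [0,0,0,0,0,0,1,0,0,0,0,0,0,0,0,0,0,0,0,0,0,0,0,0,0] 819),
  ([27,30,31,32,41,42,45,46,47], [27], .split 30 799 820),
  ([27,30,31,32,41,42,44,45,46,47], [27], .kill 43 44 1 [0,0,0,1,0,0,0,0,0,0,0,0,0,0,0,0,0,0,0,0,0,0,0,0,0] 821),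
  ([27,30,31,32,40,41,42,44,45,46,47], [27], .kill 39 40 1 [0,0,0,1,0,0,0,0,0,0,0,0,0,0,0,0,0,0,0,0,0,0,0,0,0] 822),
  ([27,30,31,32,38,40,41,42,44,45,46,47], [27], .kill 36 38 1 [0,0,0,1,0,0,0,0,0,0,0,0,0,0,0,0,0,0,0,0,0,0,0,0,0] 823),
  ([27,30,31,32,37,38,40,41,42,44,45,46,47], [27], .kill 35 37 1 [0,0,0,1,0,0,0,0,0,0,0,0,0,0,0,0,0,0,0,0,0,0,0,0,0] 824),
  ([27,30,31,32,37,38,40,41,42,43,44,45,46,47], [27], .sq 44 43 [0,0,0,1,0,0,0,0,0,0,0,0,0,0,0,0,0,0,0,1,0,0,0,0,0] 825),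
  ([27,30,31,32,37,38,39,40,41,42,43,44,45,46,47], [27], .sq 40 39 [0,0,0,1,0,0,0,0,0,0,0,0,0,0,0,1,0,0,0,0,0,0,0,0,0] 826),
  ([27,30,31,32,34,37,38,39,40,41,42,43,44,45,46,47], [27], .kill 33 34 1 [0,0,0,1,0,0,0,0,0,0,0,0,0,0,0,0,0,0,0,0,0,0,0,0,0] 827),
  ([27,30,31,32,34,36,37,38,39,40,41,42,43,44,45,46,47], [27], .sq 38 36 [0,0,0,1,0,0,0,0,0,0,0,0,1,0,0,0,0,0,0,0,0,0,0,0,0] 828),
  ([27,29,30,31,32,34,36,37,38,39,40,41,42,43,44,45,46,47], [27], .kill 26 29 1 [0,0,0,1,0,0,0,0,0,0,0,0,0,0,0,0,0,0,0,0,0,0,0,0,0] 829),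
  ([27,29,30,31,32,34,35,36,37,38,39,40,41,42,43,44,45,46,47], [27], .sq 37 35 [0,0,0,1,0,0,0,0,0,0,0,1,0,0,0,0,0,0,0,0,0,0,0,0,0] 830),
  ([27,28,29,30,31,32,34,35,36,37,38,39,40,41,42,43,44,45,46,47], [27], .kill 25 28 1 [0,0,0,1,0,0,0,0,0,0,0,0,0,0,0,0,0,0,0,0,0,0,0,0,0] 831),
  ([27,28,29,30,31,32,33,34,35,36,37,38,39,40,41,42,43,44,45,46,47], [27], .sq 34 33 [0,0,0,1,0,0,0,0,0,1,0,0,0,0,0,0,0,0,0,0,0,0,0,0,0] 832),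
  ([27,28,29,30,31,32,33,34,35,36,37,38,39,40,41,42,43,44,45,46,47], [], .split 27 745 833),
  ([26], [26], .done [(26,[-2,-2,-2,-1])] 151),
  ([26,46], [26,46], .done [(26,[-2,-2,-2,-1]),(46,[-2,-1,-2,0])] 213),
  ([26,46], [26], .split 46 835 836),
  ([26,44], [26,44], .done [(26,[-2,-2,-2,-1]),(44,[-2,-2,-2,-2])] 60),
  ([26,44,46], [26,44,46], .done [(26,[-2,-2,-2,-1]),(44,[-2,-2,-2,-2]),(46,[0,-1,-2,0])] 154),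
  ([26,44,46], [26,44], .split 46 838 839),
  ([26,44,46], [26], .split 44 837 840),
  ([26,42], [26,42], .done [(26,[-2,-2,-2,-1]),(42,[-2,-2,-2,-2])] 270),
  ([26,42,46], [26,42,46], .done [(26,[-2,-2,-2,-1]),(42,[-2,-2,-2,-2]),(46,[-2,0,-2,2])] 212),
  ([26,42,46], [26,42], .split 46 842 843),
  ([26,42,44,46], [26,42], .kill 28 44 1 [0,0,0,0,0,0,0,0,0,0,0,0,0,0,0,0,0,0,1,0,0,0,0,0,0] 844),
  ([26,42,44,46], [26], .split 42 841 845),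
  ([26,40], [26,40], .done [(26,[-2,-2,-2,-1]),(40,[-2,-1,-2,0])] 101),
  ([26,40,46], [26,40,46], .done [(26,[-2,-2,-2,-1]),(40,[-2,-1,-2,0]),(46,[-1,-1,-2,0])] 211),
  ([26,40,46], [26,40], .split 46 847 848)]

/-- part of the table -/
def tree17 : List Node := [
  ([26,40,42], [26,40,42], .done [(26,[-2,-2,-2,-1]),(40,[-2,-1,-2,0]),(42,[-2,-2,-2,-2])] 365),
  ([26,40,42,46], [26,40,42,46], .done [(26,[-2,-2,-2,-1]),(40,[-2,-1,-2,0]),(42,[-2,-2,-2,-2]),(46,[-1,-1,-2,0])] 435),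
  ([26,40,42,46], [26,40,42], .split 46 850 851),
  ([26,40,42,46], [26,40], .split 42 849 852),
  ([26,40,42,44,46], [26,40], .kill 33 44 1 [0,0,0,0,0,0,0,0,0,0,0,0,0,0,0,0,1,0,0,0,0,0,0,0,0] 853),
  ([26,40,42,44,46], [26], .split 40 846 854),
  ([26,38], [26,38], .done [(26,[-2,-2,-2,-1]),(38,[-2,-2,-2,-2])] 269),
  ([26,38,46], [26,38,46], .done [(26,[-2,-2,-2,-1]),(46,[-2,-1,-2,0]),(38,[-2,-2,-2,-2])] 401),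
  ([26,38,46], [26,38], .split 46 856 857),
  ([26,38,42], [26,38,42], .done [(26,[-2,-2,-2,-1]),(38,[-2,-2,-2,-2]),(42,[-2,0,0,0])] 364),
  ([26,38,42,46], [26,38,42,46], .done [(26,[-2,-2,-2,-1]),(42,[-2,-2,-2,-2]),(46,[-2,0,-2,2]),(38,[0,-2,-2,-2])] 458),
  ([26,38,42,46], [26,38,42], .split 46 859 860),
  ([26,38,42,46], [26,38], .split 42 858 861),
  ([26,38,42,44,46], [26,38], .kill 35 44 1 [0,0,0,0,0,0,0,0,0,0,0,0,0,0,1,0,0,0,0,0,0,0,0,0,0] 862),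
  ([26,38,40,42,44,46], [26,38], .kill 28 40 1 [0,0,0,0,0,0,0,0,0,0,0,0,0,0,1,0,0,0,0,0,0,0,0,0,0] 863),
  ([26,38,40,42,44,46], [26], .split 38 855 864),
  ([26,35], [26,35], .done [(26,[-2,-2,-2,-1]),(35,[-2,-1,-1,-1])] 268),
  ([26,35,46], [26,35,46], .done [(26,[-2,-2,-2,-1]),(35,[-2,-1,-1,-1]),(46,[-2,0,1,-1])] 362),
  ([26,35,46], [26,35], .split 46 866 867),
  ([26,35,42], [26,35,42], .done [(26,[-2,-2,-2,-1]),(35,[-2,-1,-1,-1]),(42,[-2,-2,-2,-2])] 400),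
  ([26,35,42,46], [26,35,42,46], .done [(26,[-2,-2,-2,-1]),(35,[-2,-1,-1,-1]),(46,[-2,0,1,-1]),(42,[-2,-2,-2,-2])] 457),
  ([26,35,42,46], [26,35,42], .split 46 869 870),
  ([26,35,42,46], [26,35], .split 42 868 871),
  ([26,35,42,44,46], [26,35], .kill 38 44 1 [0,0,0,0,0,0,0,0,0,0,0,1,0,0,0,0,0,0,0,0,0,0,0,0,0] 872),
  ([26,35,40,42,44,46], [26,35], .kill 31 40 1 [0,0,0,0,0,0,0,0,0,0,0,1,0,0,0,0,0,0,0,0,0,0,0,0,0] 873),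
  ([26,35,38,40,42,44,46], [26,35], .sq 44 38 [0,0,0,0,0,0,0,0,0,0,0,1,0,0,1,0,0,0,0,0,0,0,0,0,0] 874),
  ([26,35,38,40,42,44,46], [26], .split 35 865 875),
  ([26,33], [26,33], .done [(26,[-2,-2,-2,-1]),(33,[-2,-2,-2,-2])] 317),
  ([26,33,46], [26,33,46], .done [(26,[-2,-2,-2,-1]),(33,[-2,-2,-2,-2]),(46,[0,0,-2,2])] 434),
  ([26,33,46], [26,33], .split 46 877 878),
  ([26,33,42], [26,33,42], .done [(26,[-2,-2,-2,-1]),(33,[-2,-2,-2,-2]),(42,[-1,-2,-2,-2])] 399),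
  ([26,33,42,46], [26,33,42,46], .done [(26,[-2,-2,-2,-1]),(33,[-2,-2,-2,-2]),(46,[0,0,-2,2]),(42,[-1,-2,-2,-2])] 471),
  ([26,33,42,46], [26,33,42], .split 46 880 881),
  ([26,33,42,46], [26,33], .split 42 879 882),
  ([26,33,42,44,46], [26,33], .kill 40 44 1 [0,0,0,0,0,0,0,0,0,1,0,0,0,0,0,0,0,0,0,0,0,0,0,0,0] 883),
  ([26,33,38,42,44,46], [26,33], .kill 31 38 1 [0,0,0,0,0,0,0,0,0,1,0,0,0,0,0,0,0,0,0,0,0,0,0,0,0] 884),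
  ([26,33,38,40,42,44,46], [26,33], .sq 44 40 [0,0,0,0,0,0,0,0,0,1,0,0,0,0,0,0,1,0,0,0,0,0,0,0,0] 885),
  ([26,33,35,38,40,42,44,46], [26,33], .kill 28 35 1 [0,0,0,0,0,0,0,0,0,1,0,0,0,0,0,0,0,0,0,0,0,0,0,0,0] 886),
  ([26,33,35,38,40,42,44,46], [26], .split 33 876 887),
  ([26,31], [26,31], .done [(26,[-2,-2,-2,-1]),(31,[-2,-1,-2,0])] 315),
  ([26,31,46], [26,31,46], .done [(26,[-2,-2,-2,-1]),(31,[-2,-1,-2,0]),(46,[-2,-1,0,-2])] 266),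
  ([26,31,46], [26,31], .split 46 889 890),
  ([26,31,44], [26,31,44], .done [(26,[-2,-2,-2,-1]),(31,[-2,-1,-2,0]),(44,[-2,-2,-2,-2])] 316),
  ([26,31,44,46], [26,31,44,46], .done [(26,[-2,-2,-2,-1]),(31,[-2,-1,-2,0]),(44,[-2,-2,-2,-2]),(46,[0,-1,-2,0])] 433),
  ([26,31,44,46], [26,31,44], .split 46 892 893),
  ([26,31,44,46], [26,31], .split 44 891 894),
  ([26,31,42], [26,31,42], .done [(26,[-2,-2,-2,-1]),(31,[-2,-1,-2,0]),(42,[-2,-2,-2,-2])] 398),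
  ([26,31,42,46], [26,31,42,46], .done [(26,[-2,-2,-2,-1]),(31,[-2,-1,-2,0]),(46,[-2,-1,0,-2]),(42,[-2,-2,-2,-2])] 470),
  ([26,31,42,46], [26,31,42], .split 46 896 897),
  ([26,31,42,44,46], [26,31,42], .kill 28 44 1 [0,0,0,0,0,0,0,0,0,0,0,0,0,0,0,0,0,0,1,0,0,0,0,0,0] 898)]

/-- part of the table -/
def tree18 : List Node := [
  ([26,31,42,44,46], [26,31], .split 42 895 899),
  ([26,31,40,42,44,46], [26,31], .kill 35 40 1 [0,0,0,0,0,0,0,1,0,0,0,0,0,0,0,0,0,0,0,0,0,0,0,0,0] 900),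
  ([26,31,38,40,42,44,46], [26,31], .kill 33 38 1 [0,0,0,0,0,0,0,1,0,0,0,0,0,0,0,0,0,0,0,0,0,0,0,0,0] 901),
  ([26,31,35,38,40,42,44,46], [26,31], .sq 40 35 [0,0,0,0,0,0,0,1,0,0,0,1,0,0,0,0,0,0,0,0,0,0,0,0,0] 902),
  ([26,31,33,35,38,40,42,44,46], [26,31], .sq 38 33 [0,0,0,0,0,0,0,1,0,1,0,0,0,0,0,0,0,0,0,0,0,0,0,0,0] 903),
  ([26,31,33,35,38,40,42,44,46], [26], .split 31 888 904),
  ([26,28], [26,28], .done [(26,[-2,-2,-2,-1]),(28,[-2,-2,-2,-2])] 314),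
  ([26,28,46], [26,28,46], .done [(26,[-2,-2,-2,-1]),(28,[-2,-2,-2,-2]),(46,[-2,-1,-2,0])] 395),
  ([26,28,46], [26,28], .split 46 906 907),
  ([26,28,31], [26,28,31], .done [(26,[-2,-2,-2,-1]),(28,[-2,-2,-2,-2]),(31,[-2,-1,-2,0])] 431),
  ([26,28,31,46], [26,28,31,46], .done [(26,[-2,-2,-2,-1]),(28,[-2,-2,-2,-2]),(46,[-2,-1,-2,0]),(31,[0,-2,-2,-2])] 469),
  ([26,28,31,46], [26,28,31], .split 46 909 910),
  ([26,28,31,46], [26,28], .split 31 908 911),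
  ([26,28,31,44,46], [26,28], .kill 42 44 1 [0,0,0,0,1,0,0,0,0,0,0,0,0,0,0,0,0,0,0,0,0,0,0,0,0] 912),
  ([26,28,31,40,44,46], [26,28], .kill 38 40 1 [0,0,0,0,1,0,0,0,0,0,0,0,0,0,0,0,0,0,0,0,0,0,0,0,0] 913),
  ([26,28,31,40,42,44,46], [26,28], .sq 44 42 [0,0,0,0,1,0,0,0,0,0,0,0,0,0,0,0,0,0,1,0,0,0,0,0,0] 914),
  ([26,28,31,38,40,42,44,46], [26,28], .sq 40 38 [0,0,0,0,1,0,0,0,0,0,0,0,0,0,1,0,0,0,0,0,0,0,0,0,0] 915),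
  ([26,28,31,35,38,40,42,44,46], [26,28], .kill 33 35 1 [0,0,0,0,1,0,0,0,0,0,0,0,0,0,0,0,0,0,0,0,0,0,0,0,0] 916),
  ([26,28,31,33,35,38,40,42,44,46], [26,28], .sq 35 33 [0,0,0,0,1,0,0,0,0,1,0,0,0,0,0,0,0,0,0,0,0,0,0,0,0] 917),
  ([26,28,31,33,35,38,40,42,44,46], [26], .split 28 905 918),
  ([26,28,31,33,35,38,40,42,44,46,47], [26], .kill 45 47 1 [0,0,1,0,0,0,0,0,0,0,0,0,0,0,0,0,0,0,0,0,0,0,0,0,0] 919),
  ([26,28,31,33,35,38,40,42,44,45,46,47], [26], .sq 47 45 [0,0,1,0,0,0,0,0,0,0,0,0,0,0,0,0,0,0,0,0,0,1,0,0,0] 920),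
  ([26,28,31,33,35,38,40,42,43,44,45,46,47], [26], .kill 41 43 1 [0,0,1,0,0,0,0,0,0,0,0,0,0,0,0,0,0,0,0,0,0,0,0,0,0] 921),
  ([26,28,31,33,35,38,39,40,42,43,44,45,46,47], [26], .kill 37 39 1 [0,0,1,0,0,0,0,0,0,0,0,0,0,0,0,0,0,0,0,0,0,0,0,0,0] 922),
  ([26,28,31,33,35,37,38,39,40,42,43,44,45,46,47], [26], .sq 39 37 [0,0,1,0,0,0,0,0,0,0,0,0,0,1,0,0,0,0,0,0,0,0,0,0,0] 923),
  ([26,28,31,33,35,36,37,38,39,40,42,43,44,45,46,47], [26], .kill 34 36 1 [0,0,1,0,0,0,0,0,0,0,0,0,0,0,0,0,0,0,0,0,0,0,0,0,0] 924),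
  ([26,28,31,33,35,36,37,38,39,40,41,42,43,44,45,46,47], [26], .sq 43 41 [0,0,1,0,0,0,0,0,0,0,0,0,0,0,0,0,0,1,0,0,0,0,0,0,0] 925),
  ([26,28,31,32,33,35,36,37,38,39,40,41,42,43,44,45,46,47], [26], .kill 30 32 1 [0,0,1,0,0,0,0,0,0,0,0,0,0,0,0,0,0,0,0,0,0,0,0,0,0] 926),
  ([26,28,31,32,33,34,35,36,37,38,39,40,41,42,43,44,45,46,47], [26], .sq 36 34 [0,0,1,0,0,0,0,0,0,0,1,0,0,0,0,0,0,0,0,0,0,0,0,0,0] 927),
  ([26,28,29,31,32,33,34,35,36,37,38,39,40,41,42,43,44,45,46,47], [26], .kill 27 29 1 [0,0,1,0,0,0,0,0,0,0,0,0,0,0,0,0,0,0,0,0,0,0,0,0,0] 928),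
  ([26,28,29,30,31,32,33,34,35,36,37,38,39,40,41,42,43,44,45,46,47], [26], .sq 32 30 [0,0,1,0,0,0,1,0,0,0,0,0,0,0,0,0,0,0,0,0,0,0,0,0,0] 929),
  ([26,27,28,29,30,31,32,33,34,35,36,37,38,39,40,41,42,43,44,45,46,47], [26], .sq 29 27 [0,0,1,1,0,0,0,0,0,0,0,0,0,0,0,0,0,0,0,0,0,0,0,0,0] 930),
  ([26,27,28,29,30,31,32,33,34,35,36,37,38,39,40,41,42,43,44,45,46,47], [], .split 26 834 931),
  ([25], [25], .done [(25,[-2,-2,-2,-2])] 206),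
  ([25,47], [25,47], .done [(25,[-2,-2,-2,-2]),(47,[-2,-2,-1,2])] 263),
  ([25,47], [25], .split 47 933 934),
  ([25,44], [25,44], .done [(25,[-2,-2,-2,-2]),(44,[-2,-2,-2,0])] 100),
  ([25,44,47], [25,44,47], .done [(25,[-2,-2,-2,-2]),(44,[-2,-2,-2,0]),(47,[0,-2,-1,2])] 208),
  ([25,44,47], [25,44], .split 47 936 937),
  ([25,44,47], [25], .split 44 935 938),
  ([25,41], [25,41], .done [(25,[-2,-2,-2,-2]),(41,[-2,-2,-2,0])] 313),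
  ([25,41,47], [25,41,47], .done [(25,[-2,-2,-2,-2]),(41,[-2,-2,-2,0]),(47,[-1,-1,-2,-2])] 262),
  ([25,41,47], [25,41], .split 47 940 941),
  ([25,41,44,47], [25,41], .kill 29 44 1 [0,0,0,0,0,0,0,0,0,0,0,0,0,0,0,0,0,1,0,0,0,0,0,0,0] 942),
  ([25,41,44,47], [25], .split 41 939 943),
  ([25,40], [25,40], .done [(25,[-2,-2,-2,-2]),(40,[-2,-1,-2,-2])] 150),
  ([25,40,47], [25,40,47], .done [(25,[-2,-2,-2,-2]),(40,[-2,-1,-2,-2]),(47,[-2,-2,-1,2])] 261),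
  ([25,40,47], [25,40], .split 47 945 946),
  ([25,40,41], [25,40,41], .done [(25,[-2,-2,-2,-2]),(40,[-2,-1,-2,-2]),(41,[-2,-2,-2,0])] 394),
  ([25,40,41,47], [25,40,41,47], .done [(25,[-2,-2,-2,-2]),(40,[-2,-1,-2,-2]),(41,[-2,-2,-2,0]),(47,[-1,-1,-2,-2])] 455)]

/-- part of the table -/
def tree19 : List Node := [
  ([25,40,41,47], [25,40,41], .split 47 948 949),
  ([25,40,41,47], [25,40], .split 41 947 950),
  ([25,40,41,44,47], [25,40], .kill 33 44 1 [0,0,0,0,0,0,0,0,0,0,0,0,0,0,0,0,1,0,0,0,0,0,0,0,0] 951),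
  ([25,40,41,44,47], [25], .split 40 944 952),
  ([25,37], [25,37], .done [(25,[-2,-2,-2,-2]),(37,[-2,-2,-2,0])] 312),
  ([25,37,47], [25,37,47], .done [(25,[-2,-2,-2,-2]),(47,[-2,-2,-1,2]),(37,[-2,-2,-2,0])] 430),
  ([25,37,47], [25,37], .split 47 954 955),
  ([25,37,41], [25,37,41], .done [(25,[-2,-2,-2,-2]),(37,[-2,-2,-2,0]),(41,[-2,0,0,0])] 393),
  ([25,37,41,47], [25,37,41,47], .done [(25,[-2,-2,-2,-2]),(41,[-2,-2,-2,0]),(47,[-1,-1,-2,-2]),(37,[0,-2,-2,0])] 468),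
  ([25,37,41,47], [25,37,41], .split 47 957 958),
  ([25,37,41,47], [25,37], .split 41 956 959),
  ([25,37,41,44,47], [25,37], .kill 36 44 1 [0,0,0,0,0,0,0,0,0,0,0,0,0,1,0,0,0,0,0,0,0,0,0,0,0] 960),
  ([25,37,40,41,44,47], [25,37], .kill 29 40 1 [0,0,0,0,0,0,0,0,0,0,0,0,0,1,0,0,0,0,0,0,0,0,0,0,0] 961),
  ([25,37,40,41,44,47], [25], .split 37 953 962),
  ([25,36], [25,36], .done [(25,[-2,-2,-2,-2]),(36,[-2,-2,-1,2])] 207),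
  ([25,36,47], [25,36,47], .done [(25,[-2,-2,-2,-2]),(36,[-2,-2,-1,2]),(47,[-2,0,1,2])] 311),
  ([25,36,47], [25,36], .split 47 964 965),
  ([25,36,41], [25,36,41], .done [(25,[-2,-2,-2,-2]),(36,[-2,-2,-1,2]),(41,[-2,-2,-2,0])] 429),
  ([25,36,41,47], [25,36,41,47], .done [(25,[-2,-2,-2,-2]),(36,[-2,-2,-1,2]),(47,[-2,0,1,2]),(41,[-2,-2,-2,0])] 467),
  ([25,36,41,47], [25,36,41], .split 47 967 968),
  ([25,36,41,47], [25,36], .split 41 966 969),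
  ([25,36,41,44,47], [25,36], .kill 37 44 1 [0,0,0,0,0,0,0,0,0,0,0,0,1,0,0,0,0,0,0,0,0,0,0,0,0] 970),
  ([25,36,40,41,44,47], [25,36], .kill 30 40 1 [0,0,0,0,0,0,0,0,0,0,0,0,1,0,0,0,0,0,0,0,0,0,0,0,0] 971),
  ([25,36,37,40,41,44,47], [25,36], .sq 44 37 [0,0,0,0,0,0,0,0,0,0,0,0,1,1,0,0,0,0,0,0,0,0,0,0,0] 972),
  ([25,36,37,40,41,44,47], [25], .split 36 963 973),
  ([25,33], [25,33], .done [(25,[-2,-2,-2,-2]),(33,[-2,-2,-2,0])] 359),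
  ([25,33,47], [25,33,47], .done [(25,[-2,-2,-2,-2]),(33,[-2,-2,-2,0]),(47,[-1,-2,-1,2])] 454),
  ([25,33,47], [25,33], .split 47 975 976),
  ([25,33,41], [25,33,41], .done [(25,[-2,-2,-2,-2]),(33,[-2,-2,-2,0]),(41,[-1,-2,-2,0])] 428),
  ([25,33,41,47], [25,33,41,47], .done [(25,[-2,-2,-2,-2]),(33,[-2,-2,-2,0]),(47,[-1,-2,-1,2]),(41,[-1,-2,-2,0])] 480),
  ([25,33,41,47], [25,33,41], .split 47 978 979),
  ([25,33,41,47], [25,33], .split 41 977 980),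
  ([25,33,41,44,47], [25,33], .kill 40 44 1 [0,0,0,0,0,0,0,0,0,1,0,0,0,0,0,0,0,0,0,0,0,0,0,0,0] 981),
  ([25,33,37,41,44,47], [25,33], .kill 30 37 1 [0,0,0,0,0,0,0,0,0,1,0,0,0,0,0,0,0,0,0,0,0,0,0,0,0] 982),
  ([25,33,37,40,41,44,47], [25,33], .sq 44 40 [0,0,0,0,0,0,0,0,0,1,0,0,0,0,0,0,1,0,0,0,0,0,0,0,0] 983),
  ([25,33,36,37,40,41,44,47], [25,33], .kill 29 36 1 [0,0,0,0,0,0,0,0,0,1,0,0,0,0,0,0,0,0,0,0,0,0,0,0,0] 984),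
  ([25,33,36,37,40,41,44,47], [25], .split 33 974 985),
  ([25,30], [25,30], .done [(25,[-2,-2,-2,-2]),(30,[-2,-2,-1,2])] 357),
  ([25,30,47], [25,30,47], .done [(25,[-2,-2,-2,-2]),(30,[-2,-2,-1,2]),(47,[-2,-1,0,2])] 310),
  ([25,30,47], [25,30], .split 47 987 988),
  ([25,30,44], [25,30,44], .done [(25,[-2,-2,-2,-2]),(30,[-2,-2,-1,2]),(44,[-2,-2,-2,0])] 358),
  ([25,30,44,47], [25,30,44,47], .done [(25,[-2,-2,-2,-2]),(30,[-2,-2,-1,2]),(44,[-2,-2,-2,0]),(47,[0,-1,-2,-2])] 453),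
  ([25,30,44,47], [25,30,44], .split 47 990 991),
  ([25,30,44,47], [25,30], .split 44 989 992),
  ([25,30,41], [25,30,41], .done [(25,[-2,-2,-2,-2]),(30,[-2,-2,-1,2]),(41,[-2,-2,-2,0])] 427),
  ([25,30,41,47], [25,30,41,47], .done [(25,[-2,-2,-2,-2]),(30,[-2,-2,-1,2]),(47,[-2,-1,0,2]),(41,[-2,-2,-2,0])] 479),
  ([25,30,41,47], [25,30,41], .split 47 994 995),
  ([25,30,41,44,47], [25,30,41], .kill 29 44 1 [0,0,0,0,0,0,0,0,0,0,0,0,0,0,0,0,0,1,0,0,0,0,0,0,0] 996),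
  ([25,30,41,44,47], [25,30], .split 41 993 997),
  ([25,30,40,41,44,47], [25,30], .kill 36 40 1 [0,0,0,0,0,0,1,0,0,0,0,0,0,0,0,0,0,0,0,0,0,0,0,0,0] 998)]

/-- part of the table -/
def tree20 : List Node := [
  ([25,30,37,40,41,44,47], [25,30], .kill 33 37 1 [0,0,0,0,0,0,1,0,0,0,0,0,0,0,0,0,0,0,0,0,0,0,0,0,0] 999),
  ([25,30,36,37,40,41,44,47], [25,30], .sq 40 36 [0,0,0,0,0,0,1,0,0,0,0,0,1,0,0,0,0,0,0,0,0,0,0,0,0] 1000),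
  ([25,30,33,36,37,40,41,44,47], [25,30], .sq 37 33 [0,0,0,0,0,0,1,0,0,1,0,0,0,0,0,0,0,0,0,0,0,0,0,0,0] 1001),
  ([25,30,33,36,37,40,41,44,47], [25], .split 30 986 1002),
  ([25,29], [25,29], .done [(25,[-2,-2,-2,-2]),(29,[-2,-2,-2,0])] 260),
  ([25,29,47], [25,29,47], .done [(25,[-2,-2,-2,-2]),(29,[-2,-2,-2,0]),(47,[-2,-1,-2,-2])] 356),
  ([25,29,47], [25,29], .split 47 1004 1005),
  ([25,29,30], [25,29,30], .done [(25,[-2,-2,-2,-2]),(29,[-2,-2,-2,0]),(30,[-2,-1,-2,-2])] 452),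
  ([25,29,30,47], [25,29,30,47], .done [(25,[-2,-2,-2,-2]),(29,[-2,-2,-2,0]),(47,[-2,-1,-2,-2]),(30,[0,-2,-2,0])] 478),
  ([25,29,30,47], [25,29,30], .split 47 1007 1008),
  ([25,29,30,47], [25,29], .split 30 1006 1009),
  ([25,29,30,44,47], [25,29], .kill 41 44 1 [0,0,0,0,0,1,0,0,0,0,0,0,0,0,0,0,0,0,0,0,0,0,0,0,0] 1010),
  ([25,29,30,40,44,47], [25,29], .kill 37 40 1 [0,0,0,0,0,1,0,0,0,0,0,0,0,0,0,0,0,0,0,0,0,0,0,0,0] 1011),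
  ([25,29,30,40,41,44,47], [25,29], .sq 44 41 [0,0,0,0,0,1,0,0,0,0,0,0,0,0,0,0,0,1,0,0,0,0,0,0,0] 1012),
  ([25,29,30,37,40,41,44,47], [25,29], .sq 40 37 [0,0,0,0,0,1,0,0,0,0,0,0,0,1,0,0,0,0,0,0,0,0,0,0,0] 1013),
  ([25,29,30,36,37,40,41,44,47], [25,29], .kill 33 36 1 [0,0,0,0,0,1,0,0,0,0,0,0,0,0,0,0,0,0,0,0,0,0,0,0,0] 1014),
  ([25,29,30,33,36,37,40,41,44,47], [25,29], .sq 36 33 [0,0,0,0,0,1,0,0,0,1,0,0,0,0,0,0,0,0,0,0,0,0,0,0,0] 1015),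
  ([25,29,30,33,36,37,40,41,44,47], [25], .split 29 1003 1016),
  ([25,29,30,33,36,37,40,41,44,46,47], [25], .kill 45 46 1 [0,1,0,0,0,0,0,0,0,0,0,0,0,0,0,0,0,0,0,0,0,0,0,0,0] 1017),
  ([25,29,30,33,36,37,40,41,44,45,46,47], [25], .sq 46 45 [0,1,0,0,0,0,0,0,0,0,0,0,0,0,0,0,0,0,0,0,0,1,0,0,0] 1018),
  ([25,29,30,33,36,37,40,41,43,44,45,46,47], [25], .kill 42 43 1 [0,1,0,0,0,0,0,0,0,0,0,0,0,0,0,0,0,0,0,0,0,0,0,0,0] 1019),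
  ([25,29,30,33,36,37,39,40,41,43,44,45,46,47], [25], .kill 38 39 1 [0,1,0,0,0,0,0,0,0,0,0,0,0,0,0,0,0,0,0,0,0,0,0,0,0] 1020),
  ([25,29,30,33,36,37,38,39,40,41,43,44,45,46,47], [25], .sq 39 38 [0,1,0,0,0,0,0,0,0,0,0,0,0,0,1,0,0,0,0,0,0,0,0,0,0] 1021),
  ([25,29,30,33,35,36,37,38,39,40,41,43,44,45,46,47], [25], .kill 34 35 1 [0,1,0,0,0,0,0,0,0,0,0,0,0,0,0,0,0,0,0,0,0,0,0,0,0] 1022),
  ([25,29,30,33,35,36,37,38,39,40,41,42,43,44,45,46,47], [25], .sq 43 42 [0,1,0,0,0,0,0,0,0,0,0,0,0,0,0,0,0,0,1,0,0,0,0,0,0] 1023),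
  ([25,29,30,32,33,35,36,37,38,39,40,41,42,43,44,45,46,47], [25], .kill 31 32 1 [0,1,0,0,0,0,0,0,0,0,0,0,0,0,0,0,0,0,0,0,0,0,0,0,0] 1024),
  ([25,29,30,32,33,34,35,36,37,38,39,40,41,42,43,44,45,46,47], [25], .sq 35 34 [0,1,0,0,0,0,0,0,0,0,1,0,0,0,0,0,0,0,0,0,0,0,0,0,0] 1025),
  ([25,28,29,30,32,33,34,35,36,37,38,39,40,41,42,43,44,45,46,47], [25], .kill 27 28 1 [0,1,0,0,0,0,0,0,0,0,0,0,0,0,0,0,0,0,0,0,0,0,0,0,0] 1026),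
  ([25,28,29,30,31,32,33,34,35,36,37,38,39,40,41,42,43,44,45,46,47], [25], .sq 32 31 [0,1,0,0,0,0,0,1,0,0,0,0,0,0,0,0,0,0,0,0,0,0,0,0,0] 1027),
  ([25,26,28,29,30,31,32,33,34,35,36,37,38,39,40,41,42,43,44,45,46,47], [25], .kill 24 26 1 [0,1,0,0,0,0,0,0,0,0,0,0,0,0,0,0,0,0,0,0,0,0,0,0,0] 1028),
  ([25,26,27,28,29,30,31,32,33,34,35,36,37,38,39,40,41,42,43,44,45,46,47], [25], .sq 28 27 [0,1,0,1,0,0,0,0,0,0,0,0,0,0,0,0,0,0,0,0,0,0,0,0,0] 1029),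
  ([25,26,27,28,29,30,31,32,33,34,35,36,37,38,39,40,41,42,43,44,45,46,47], [], .split 25 932 1030),
  ([24], [24], .done [(24,[-2,-2,-2,-2])] 203),
  ([24,45], [24,45], .done [(24,[-2,-2,-2,-2]),(45,[-2,-2,-2,-1])] 259),
  ([24,45], [24], .split 45 1032 1033),
  ([24,44], [24,44], .done [(24,[-2,-2,-2,-2]),(44,[-2,-2,-2,-1])] 99),
  ([24,44,45], [24,44,45], .done [(24,[-2,-2,-2,-2]),(44,[-2,-2,-2,-1]),(45,[0,-2,-2,-1])] 205),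
  ([24,44,45], [24,44], .split 45 1035 1036),
  ([24,44,45], [24], .split 44 1034 1037),
  ([24,43], [24,43], .done [(24,[-2,-2,-2,-2]),(43,[-2,-2,-2,-1])] 309),
  ([24,43,45], [24,43,45], .done [(24,[-2,-2,-2,-2]),(43,[-2,-2,-2,-1]),(45,[-2,-2,0,0])] 258),
  ([24,43,45], [24,43], .split 45 1039 1040),
  ([24,43,44,45], [24,43], .kill 27 44 1 [0,0,0,0,0,0,0,0,0,0,0,0,0,0,0,0,0,0,0,1,0,0,0,0,0] 1041),
  ([24,43,44,45], [24], .split 43 1038 1042),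
  ([24,40], [24,40], .done [(24,[-2,-2,-2,-2]),(40,[-2,-1,-2,-1])] 149),
  ([24,40,45], [24,40,45], .done [(24,[-2,-2,-2,-2]),(40,[-2,-1,-2,-1]),(45,[-2,-2,-2,-1])] 257),
  ([24,40,45], [24,40], .split 45 1044 1045),
  ([24,40,43], [24,40,43], .done [(24,[-2,-2,-2,-2]),(40,[-2,-1,-2,-1]),(43,[-2,-2,-2,-1])] 392),
  ([24,40,43,45], [24,40,43,45], .done [(24,[-2,-2,-2,-2]),(40,[-2,-1,-2,-1]),(43,[-2,-2,-2,-1]),(45,[-2,-2,0,0])] 451),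
  ([24,40,43,45], [24,40,43], .split 45 1047 1048)]

/-- part of the table -/
def tree21 : List Node := [
  ([24,40,43,45], [24,40], .split 43 1046 1049),
  ([24,40,43,44,45], [24,40], .kill 33 44 1 [0,0,0,0,0,0,0,0,0,0,0,0,0,0,0,0,1,0,0,0,0,0,0,0,0] 1050),
  ([24,40,43,44,45], [24], .split 40 1043 1051),
  ([24,39], [24,39], .done [(24,[-2,-2,-2,-2]),(39,[-2,-2,0,0])] 204),
  ([24,39,45], [24,39,45], .done [(24,[-2,-2,-2,-2]),(39,[-2,-2,0,0]),(45,[-2,-2,-2,-1])] 426),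
  ([24,39,45], [24,39], .split 45 1053 1054),
  ([24,39,43], [24,39,43], .done [(24,[-2,-2,-2,-2]),(39,[-2,-2,0,0]),(43,[-2,-2,-2,-1])] 308),
  ([24,39,43,45], [24,39,43,45], .done [(24,[-2,-2,-2,-2]),(39,[-2,-2,0,0]),(43,[-2,-2,-2,-1]),(45,[-1,-2,-2,-1])] 466),
  ([24,39,43,45], [24,39,43], .split 45 1056 1057),
  ([24,39,43,45], [24,39], .split 43 1055 1058),
  ([24,39,43,44,45], [24,39], .kill 34 44 1 [0,0,0,0,0,0,0,0,0,0,0,0,0,0,0,1,0,0,0,0,0,0,0,0,0] 1059),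
  ([24,39,40,43,44,45], [24,39], .kill 27 40 1 [0,0,0,0,0,0,0,0,0,0,0,0,0,0,0,1,0,0,0,0,0,0,0,0,0] 1060),
  ([24,39,40,43,44,45], [24], .split 39 1052 1061),
  ([24,34], [24,34], .done [(24,[-2,-2,-2,-2]),(34,[-2,-2,-2,-1])] 306),
  ([24,34,45], [24,34,45], .done [(24,[-2,-2,-2,-2]),(34,[-2,-2,-2,-1]),(45,[-2,0,-2,-1])] 391),
  ([24,34,45], [24,34], .split 45 1063 1064),
  ([24,34,43], [24,34,43], .done [(24,[-2,-2,-2,-2]),(34,[-2,-2,-2,-1]),(43,[-1,-1,-2,-1])] 425),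
  ([24,34,43,45], [24,34,43,45], .done [(24,[-2,-2,-2,-2]),(34,[-2,-2,-2,-1]),(45,[-2,0,-2,-1]),(43,[-1,-1,-2,-1])] 465),
  ([24,34,43,45], [24,34,43], .split 45 1066 1067),
  ([24,34,43,45], [24,34], .split 43 1065 1068),
  ([24,34,43,44,45], [24,34], .kill 39 44 1 [0,0,0,0,0,0,0,0,0,0,1,0,0,0,0,0,0,0,0,0,0,0,0,0,0] 1069),
  ([24,34,40,43,44,45], [24,34], .kill 32 40 1 [0,0,0,0,0,0,0,0,0,0,1,0,0,0,0,0,0,0,0,0,0,0,0,0,0] 1070),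
  ([24,34,39,40,43,44,45], [24,34], .sq 44 39 [0,0,0,0,0,0,0,0,0,0,1,0,0,0,0,1,0,0,0,0,0,0,0,0,0] 1071),
  ([24,34,39,40,43,44,45], [24], .split 34 1062 1072),
  ([24,33], [24,33], .done [(24,[-2,-2,-2,-2]),(33,[-2,-2,-2,-1])] 355),
  ([24,33,45], [24,33,45], .done [(24,[-2,-2,-2,-2]),(33,[-2,-2,-2,-1]),(45,[-1,-2,-2,-1])] 450),
  ([24,33,45], [24,33], .split 45 1074 1075),
  ([24,33,43], [24,33,43], .done [(24,[-2,-2,-2,-2]),(33,[-2,-2,-2,-1]),(43,[-1,-2,0,0])] 424),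
  ([24,33,43,45], [24,33,43,45], .done [(24,[-2,-2,-2,-2]),(33,[-2,-2,-2,-1]),(43,[-1,-2,0,0]),(45,[-1,-2,-2,-1])] 477),
  ([24,33,43,45], [24,33,43], .split 45 1077 1078),
  ([24,33,43,45], [24,33], .split 43 1076 1079),
  ([24,33,43,44,45], [24,33], .kill 40 44 1 [0,0,0,0,0,0,0,0,0,1,0,0,0,0,0,0,0,0,0,0,0,0,0,0,0] 1080),
  ([24,33,39,43,44,45], [24,33], .kill 32 39 1 [0,0,0,0,0,0,0,0,0,1,0,0,0,0,0,0,0,0,0,0,0,0,0,0,0] 1081),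
  ([24,33,39,40,43,44,45], [24,33], .sq 44 40 [0,0,0,0,0,0,0,0,0,1,0,0,0,0,0,0,1,0,0,0,0,0,0,0,0] 1082),
  ([24,33,34,39,40,43,44,45], [24,33], .kill 27 34 1 [0,0,0,0,0,0,0,0,0,1,0,0,0,0,0,0,0,0,0,0,0,0,0,0,0] 1083),
  ([24,33,34,39,40,43,44,45], [24], .split 33 1073 1084),
  ([24,32], [24,32], .done [(24,[-2,-2,-2,-2]),(32,[-2,-2,-2,-1])] 352),
  ([24,32,45], [24,32,45], .done [(24,[-2,-2,-2,-2]),(32,[-2,-2,-2,-1]),(45,[-1,-2,-2,-1])] 305),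
  ([24,32,45], [24,32], .split 45 1086 1087),
  ([24,32,44], [24,32,44], .done [(24,[-2,-2,-2,-2]),(32,[-2,-2,-2,-1]),(44,[-1,-2,-2,-1])] 354),
  ([24,32,44,45], [24,32,44,45], .done [(24,[-2,-2,-2,-2]),(32,[-2,-2,-2,-1]),(44,[-1,-2,-2,-1]),(45,[0,-2,0,0])] 449),
  ([24,32,44,45], [24,32,44], .split 45 1089 1090),
  ([24,32,44,45], [24,32], .split 44 1088 1091),
  ([24,32,43], [24,32,43], .done [(24,[-2,-2,-2,-2]),(32,[-2,-2,-2,-1]),(43,[-1,-1,-2,-1])] 353),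
  ([24,32,43,45], [24,32,43,45], .done [(24,[-2,-2,-2,-2]),(32,[-2,-2,-2,-1]),(43,[-1,-1,-2,-1]),(45,[-1,-2,-2,-1])] 476),
  ([24,32,43,45], [24,32,43], .split 45 1093 1094),
  ([24,32,43,44,45], [24,32,43], .kill 27 44 1 [0,0,0,0,0,0,0,0,0,0,0,0,0,0,0,0,0,0,0,1,0,0,0,0,0] 1095),
  ([24,32,43,44,45], [24,32], .split 43 1092 1096),
  ([24,32,40,43,44,45], [24,32], .kill 34 40 1 [0,0,0,0,0,0,0,0,1,0,0,0,0,0,0,0,0,0,0,0,0,0,0,0,0] 1097),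
  ([24,32,39,40,43,44,45], [24,32], .kill 33 39 1 [0,0,0,0,0,0,0,0,1,0,0,0,0,0,0,0,0,0,0,0,0,0,0,0,0] 1098)]

/-- part of the table -/
def tree22 : List Node := [
  ([24,32,34,39,40,43,44,45], [24,32], .sq 40 34 [0,0,0,0,0,0,0,0,1,0,1,0,0,0,0,0,0,0,0,0,0,0,0,0,0] 1099),
  ([24,32,33,34,39,40,43,44,45], [24,32], .sq 39 33 [0,0,0,0,0,0,0,0,1,1,0,0,0,0,0,0,0,0,0,0,0,0,0,0,0] 1100),
  ([24,32,33,34,39,40,43,44,45], [24], .split 32 1085 1101),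
  ([24,27], [24,27], .done [(24,[-2,-2,-2,-2]),(27,[-2,-2,0,0])] 351),
  ([24,27,45], [24,27,45], .done [(24,[-2,-2,-2,-2]),(27,[-2,-2,0,0]),(45,[-2,-2,-2,-1])] 422),
  ([24,27,45], [24,27], .split 45 1103 1104),
  ([24,27,32], [24,27,32], .done [(24,[-2,-2,-2,-2]),(27,[-2,-2,0,0]),(32,[-2,-2,-2,-1])] 447),
  ([24,27,32,45], [24,27,32,45], .done [(24,[-2,-2,-2,-2]),(27,[-2,-2,0,0]),(45,[-2,-2,-2,-1]),(32,[0,-1,-2,-1])] 475),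
  ([24,27,32,45], [24,27,32], .split 45 1106 1107),
  ([24,27,32,45], [24,27], .split 32 1105 1108),
  ([24,27,32,44,45], [24,27], .kill 43 44 1 [0,0,0,1,0,0,0,0,0,0,0,0,0,0,0,0,0,0,0,0,0,0,0,0,0] 1109),
  ([24,27,32,40,44,45], [24,27], .kill 39 40 1 [0,0,0,1,0,0,0,0,0,0,0,0,0,0,0,0,0,0,0,0,0,0,0,0,0] 1110),
  ([24,27,32,40,43,44,45], [24,27], .sq 44 43 [0,0,0,1,0,0,0,0,0,0,0,0,0,0,0,0,0,0,0,1,0,0,0,0,0] 1111),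
  ([24,27,32,39,40,43,44,45], [24,27], .sq 40 39 [0,0,0,1,0,0,0,0,0,0,0,0,0,0,0,1,0,0,0,0,0,0,0,0,0] 1112),
  ([24,27,32,34,39,40,43,44,45], [24,27], .kill 33 34 1 [0,0,0,1,0,0,0,0,0,0,0,0,0,0,0,0,0,0,0,0,0,0,0,0,0] 1113),
  ([24,27,32,33,34,39,40,43,44,45], [24,27], .sq 34 33 [0,0,0,1,0,0,0,0,0,1,0,0,0,0,0,0,0,0,0,0,0,0,0,0,0] 1114),
  ([24,27,32,33,34,39,40,43,44,45], [24], .split 27 1102 1115),
  ([24,27,32,33,34,39,40,43,44,45,47], [24], .kill 46 47 1 [1,0,0,0,0,0,0,0,0,0,0,0,0,0,0,0,0,0,0,0,0,0,0,0,0] 1116),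
  ([24,27,32,33,34,39,40,43,44,45,46,47], [24], .sq 47 46 [1,0,0,0,0,0,0,0,0,0,0,0,0,0,0,0,0,0,0,0,0,0,1,0,0] 1117),
  ([24,27,32,33,34,39,40,42,43,44,45,46,47], [24], .kill 41 42 1 [1,0,0,0,0,0,0,0,0,0,0,0,0,0,0,0,0,0,0,0,0,0,0,0,0] 1118),
  ([24,27,32,33,34,38,39,40,42,43,44,45,46,47], [24], .kill 37 38 1 [1,0,0,0,0,0,0,0,0,0,0,0,0,0,0,0,0,0,0,0,0,0,0,0,0] 1119),
  ([24,27,32,33,34,37,38,39,40,42,43,44,45,46,47], [24], .sq 38 37 [1,0,0,0,0,0,0,0,0,0,0,0,0,1,0,0,0,0,0,0,0,0,0,0,0] 1120),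
  ([24,27,32,33,34,36,37,38,39,40,42,43,44,45,46,47], [24], .kill 35 36 1 [1,0,0,0,0,0,0,0,0,0,0,0,0,0,0,0,0,0,0,0,0,0,0,0,0] 1121),
  ([24,27,32,33,34,36,37,38,39,40,41,42,43,44,45,46,47], [24], .sq 42 41 [1,0,0,0,0,0,0,0,0,0,0,0,0,0,0,0,0,1,0,0,0,0,0,0,0] 1122),
  ([24,27,31,32,33,34,36,37,38,39,40,41,42,43,44,45,46,47], [24], .kill 30 31 1 [1,0,0,0,0,0,0,0,0,0,0,0,0,0,0,0,0,0,0,0,0,0,0,0,0] 1123),
  ([24,27,31,32,33,34,35,36,37,38,39,40,41,42,43,44,45,46,47], [24], .sq 36 35 [1,0,0,0,0,0,0,0,0,0,0,1,0,0,0,0,0,0,0,0,0,0,0,0,0] 1124),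
  ([24,27,29,31,32,33,34,35,36,37,38,39,40,41,42,43,44,45,46,47], [24], .kill 28 29 1 [1,0,0,0,0,0,0,0,0,0,0,0,0,0,0,0,0,0,0,0,0,0,0,0,0] 1125),
  ([24,27,29,30,31,32,33,34,35,36,37,38,39,40,41,42,43,44,45,46,47], [24], .sq 31 30 [1,0,0,0,0,0,1,0,0,0,0,0,0,0,0,0,0,0,0,0,0,0,0,0,0] 1126),
  ([24,27,28,29,30,31,32,33,34,35,36,37,38,39,40,41,42,43,44,45,46,47], [24], .sq 29 28 [1,0,0,0,1,0,0,0,0,0,0,0,0,0,0,0,0,0,0,0,0,0,0,0,0] 1127),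
  ([24,26,27,28,29,30,31,32,33,34,35,36,37,38,39,40,41,42,43,44,45,46,47], [24], .kill 25 26 1 [1,0,0,0,0,0,0,0,0,0,0,0,0,0,0,0,0,0,0,0,0,0,0,0,0] 1128),
  ([24,25,26,27,28,29,30,31,32,33,34,35,36,37,38,39,40,41,42,43,44,45,46,47], [24], .sq 26 25 [1,1,0,0,0,0,0,0,0,0,0,0,0,0,0,0,0,0,0,0,0,0,0,0,0] 1129),
  ([24,25,26,27,28,29,30,31,32,33,34,35,36,37,38,39,40,41,42,43,44,45,46,47], [], .split 24 1031 1130)]

/-- the table -/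
def tree : List Node := tree0 ++ (tree1 ++ (tree2 ++ (tree3 ++ (tree4 ++ (tree5 ++ (tree6 ++ (tree7 ++ (tree8 ++ (tree9 ++ (tree10 ++ (tree11 ++ (tree12 ++ (tree13 ++ (tree14 ++ (tree15 ++ (tree16 ++ (tree17 ++ (tree18 ++ (tree19 ++ (tree20 ++ (tree21 ++ (tree22))))))))))))))))))))))

end CfsgLib.Lie.Chev.InvTree.F4
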