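/-
Kernel checks of the case tree of `F₄` in characteristic two.
-/
import Cfsg.Agent.Lib.Lie.CharTwoTree.F4.Data

set_option autoImplicit false
set_option maxRecDepth 100000

namespace CfsgLib.Lie.Chev.InvTree.F4

open Cfsg.Lie (chevF4)

theorem moves_chk : chkMoves chevF4 auxF4 reps moves = true := by decide +kernel

theorem tree_chk0 : chkTree chevF4 moves tree 0 50 = true := by decide +kernel

theorem tree_chk1 : chkTree chevF4 moves tree 50 50 = true := by decide +kernel

theorem tree_chk2 : chkTree chevF4 moves tree 100 50 = true := by decide +kernel

theorem tree_chk3 : chkTree chevF4 moves tree 150 50 = true := by decide +kernel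

theorem tree_chk4 : chkTree chevF4 moves tree 200 50 = true := by decide +kernel

theorem tree_chk5 : chkTree chevF4 moves tree 250 50 = true := by decide +kernel

theorem tree_chk6 : chkTree chevF4 moves tree 300 50 = true := by decide +kernel

theorem tree_chk7 : chkTree chevF4 moves tree 350 50 = true := by decide +kernel

theorem tree_chk8 : chkTree chevF4 moves tree 400 50 = true := by decide +kernel

theorem tree_chk9 : chkTree chevF4 moves tree 450 50 = true := by decide +kernel

theorem tree_chk10 : chkTree chevF4 moves tree 500 50 = true := by decide +kernel

theorem tree_chk11 : chkTree chevF4 moves tree 550 50 = true := by decide +kernel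

theorem tree_chk12 : chkTree chevF4 moves tree 600 50 = true := by decide +kernel

theorem tree_chk13 : chkTree chevF4 moves tree 650 50 = true := by decide +kernel

theorem tree_chk14 : chkTree chevF4 moves tree 700 50 = true := by decide +kernel

theorem tree_chk15 : chkTree chevF4 moves tree 750 50 = true := by decide +kernel

theorem tree_chk16 : chkTree chevF4 moves tree 800 50 = true := by decide +kernel

theorem tree_chk17 : chkTree chevF4 moves tree 850 50 = true := by decide +kernel

theorem tree_chk18 : chkTree chevF4 moves tree 900 50 = true := by decide +kernel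

theorem tree_chk19 : chkTree chevF4 moves tree 950 50 = true := by decide +kernel

theorem tree_chk20 : chkTree chevF4 moves tree 1000 50 = true := by decide +kernel

theorem tree_chk21 : chkTree chevF4 moves tree 1050 50 = true := by decide +kernel

theorem tree_chk22 : chkTree chevF4 moves tree 1100 32 = true := by decide +kernel

theorem tree_length : tree.length = 1132 := by decide +kernel

theorem tree_top : decide ((1131 : ℕ) < tree.length ∧ (List.range' (half chevF4) (half chevF4)).all (fun r => memN r (tree.getD 1131 ([], [], .split 0 0 0)).1) = true ∧
    (tree.getD 1131 ([], [], .split 0 0 0)).2.1 = []) = true := by decide +kernel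

theorem chk_of_range {lo n i : ℕ} (h : chkTree chevF4 moves tree lo n = true) (h1 : lo ≤ i) (h2 : i < lo + n) :
    chkNode chevF4 moves tree i = true := by
  simp only [chkTree, List.all_eq_true] at h
  exact h i (List.mem_range'_1.2 ⟨h1, h2⟩)

theorem tree_chk : ∀ i, i < tree.length → chkNode chevF4 moves tree i = true := by
  intro i hi
  rw [tree_length] at hi
  rcases lt_or_ge i 50 with h | h0
  · exact chk_of_range tree_chk0 (by omega) (by omega)
  rcases lt_or_ge i 100 with h | h1
  · exact chk_of_range tree_chk1 (by omega) (by omega)
  rcases lt_or_ge i 150 with h | h2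
  · exact chk_of_range tree_chk2 (by omega) (by omega)
  rcases lt_or_ge i 200 with h | h3
  · exact chk_of_range tree_chk3 (by omega) (by omega)
  rcases lt_or_ge i 250 with h | h4
  · exact chk_of_range tree_chk4 (by omega) (by omega)
  rcases lt_or_ge i 300 with h | h5
  · exact chk_of_range tree_chk5 (by omega) (by omega)
  rcases lt_or_ge i 350 with h | h6
  · exact chk_of_range tree_chk6 (by omega) (by omega)
  rcases lt_or_ge i 400 with h | h7
  · exact chk_of_range tree_chk7 (by omega) (by omega)
  rcases lt_or_ge i 450 with h | h8
  · exact chk_of_range tree_chk8 (by omega) (by omega)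
  rcases lt_or_ge i 500 with h | h9
  · exact chk_of_range tree_chk9 (by omega) (by omega)
  rcases lt_or_ge i 550 with h | h10
  · exact chk_of_range tree_chk10 (by omega) (by omega)
  rcases lt_or_ge i 600 with h | h11
  · exact chk_of_range tree_chk11 (by omega) (by omega)
  rcases lt_or_ge i 650 with h | h12
  · exact chk_of_range tree_chk12 (by omega) (by omega)
  rcases lt_or_ge i 700 with h | h13
  · exact chk_of_range tree_chk13 (by omega) (by omega)
  rcases lt_or_ge i 750 with h | h14
  · exact chk_of_range tree_chk14 (by omega) (by omega)
  rcases lt_or_ge i 800 with h | h15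
  · exact chk_of_range tree_chk15 (by omega) (by omega)
  rcases lt_or_ge i 850 with h | h16
  · exact chk_of_range tree_chk16 (by omega) (by omega)
  rcases lt_or_ge i 900 with h | h17
  · exact chk_of_range tree_chk17 (by omega) (by omega)
  rcases lt_or_ge i 950 with h | h18
  · exact chk_of_range tree_chk18 (by omega) (by omega)
  rcases lt_or_ge i 1000 with h | h19
  · exact chk_of_range tree_chk19 (by omega) (by omega)
  rcases lt_or_ge i 1050 with h | h20
  · exact chk_of_range tree_chk20 (by omega) (by omega)
  rcases lt_or_ge i 1100 with h | h21
  · exact chk_of_range tree_chk21 (by omega) (by omega)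
  exact chk_of_range tree_chk22 (by omega) (by omega)

end CfsgLib.Lie.Chev.InvTree.F4
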