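/-
Ranks separating the four classes of involutions of `F₄` in characteristic two.
-/
import Cfsg.Agent.Lib.Lie.CharTwoTree.Ideal
import Cfsg.Agent.Lib.Lie.Chev.Data.F4

set_option autoImplicit false
set_option maxRecDepth 100000

namespace CfsgLib.Lie.Chev.InvTree.F4

open Cfsg.Lie (chevF4)

/-- the short root ideal -/
def shortIdeal : List ℕ := [0, 1, 7, 11, 12, 13, 14, 15, 16, 17, 18, 22, 23, 24, 31, 32, 33, 37, 38, 39, 40, 41, 42, 43, 44, 48]

theorem shortIdeal_chk : chkIdeal chevF4 shortIdeal = true := by decide +kernel

theorem shortIdeal_lt : ∀ c ∈ shortIdeal, c < chevF4.rank + chevF4.nroots := by decide +kernel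

theorem shortIdeal_nodup : shortIdeal.Nodup := by decide +kernel

/-- row selection -/
def rankUR47 : List (List ℕ) := [[], [], [0, 1], [], [], [], [], [], [], [], [], [], [], [], [], [], [], [], [], [], [], [], [], [], [], [], [], [], [2], [], [3], [], [], [4], [], [5], [6], [], [], [], [7], [], [8], [9], [10], [], [11], [12], [13], [14], [15], [0]]

/-- column selection -/
def rankVR47 : List (List ℕ) := [[3], [4], [5], [6], [7], [8], [9], [11], [12], [13], [15], [19], [20], [22], [25], [27]]

theorem rankR47 : Inv2.chkRank chevF4 [47] 16 rankUR47 rankVR47 = true := by decide +kernel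

/-- row selection -/
def rankUR44 : List (List ℕ) := [[], [0, 4], [], [], [], [], [], [], [], [], [], [], [], [], [], [], [], [], [], [], [], [], [], [], [], [], [], [], [], [], [], [], [], [], [], [], [], [8], [9], [10], [11], [12], [13], [14], [15], [1], [2], [3], [0], [5], [6], [7]]

/-- column selection -/
def rankVR44 : List (List ℕ) := [[0], [4], [5], [6], [7], [8], [9], [10], [11], [12], [13], [14], [15], [16], [17], [18]]

theorem rankR44 : Inv2.chkRank chevF4 [44] 16 rankUR44 rankVR44 = true := by decide +kernel

/-- row selection -/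
def rankUR4744 : List (List ℕ) := [[], [0, 1, 5, 8], [], [], [], [], [], [], [], [], [], [], [], [], [], [], [], [], [], [], [], [], [], [], [], [], [], [], [3, 17], [], [4, 18], [], [], [1, 8], [], [6, 19], [7, 20], [9, 12], [10, 14], [11, 15], [12], [13, 16], [14], [15], [16], [0, 1, 2], [17], [18], [0], [19], [20], [1]]

/-- column selection -/
def rankVR4744 : List (List ℕ) := [[0], [3], [4], [5], [6], [7], [8], [9], [10], [11], [12], [13], [14], [15], [16], [17], [18], [19], [20], [25], [27]]

theorem rankR4744 : Inv2.chkRank chevF4 [47, 44] 21 rankUR4744 rankVR4744 = true := by decide +kernel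

/-- row selection -/
def rankUR3945 : List (List ℕ) := [[0, 10], [], [], [1, 4, 10], [], [], [], [], [], [], [], [], [], [], [], [], [], [], [], [], [], [], [], [], [], [], [], [], [], [2, 22], [3, 23], [5, 15], [13], [14], [7], [8], [6], [], [9, 21], [19], [20], [11], [12], [0], [15], [17], [18], [16], [21], [0, 1], [11, 22], [12, 23]]

/-- column selection -/
def rankVR3945 : List (List ℕ) := [[1], [2], [4], [5], [6], [7], [8], [9], [10], [11], [12], [13], [14], [15], [16], [17], [19], [20], [21], [22], [23], [24], [25], [26]]

theorem rankR3945 : Inv2.chkRank chevF4 [39, 45] 24 rankUR3945 rankVR3945 = true := by decide +kernel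

/-- row selection -/
def rankUS47 : List (List ℕ) := [[], [], [], [], [], [], [], [], [], [], [], [], [], [], [], [], [0], [], [], [], [1], [], [2], [3], [4], [5]]

/-- column selection -/
def rankVS47 : List (List ℕ) := [[2], [3], [4], [5], [7], [11]]

theorem rankS47 : chkSubRank chevF4 shortIdeal [47] 6 rankUS47 rankVS47 = true := by decide +kernel

/-- row selection -/
def rankUS44 : List (List ℕ) := [[], [0, 1], [], [], [], [], [], [], [], [], [], [], [], [], [], [], [], [2], [3], [4], [5], [6], [7], [8], [9], [0]]

/-- column selection -/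
def rankVS44 : List (List ℕ) := [[0], [2], [3], [4], [5], [6], [7], [8], [9], [10]]

theorem rankS44 : chkSubRank chevF4 shortIdeal [44] 10 rankUS44 rankVS44 = true := by decide +kernel

end CfsgLib.Lie.Chev.InvTree.F4
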