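/-
The four classes of involutions of `F₄(q)`, `q` even.
-/
import Cfsg.Agent.Lib.Lie.CharTwoTree.F4.Check
import Cfsg.Agent.Lib.Lie.CharTwoTree.F4.Sep
import Cfsg.Agent.Lib.Lie.Chev.Data.CertF4

set_option autoImplicit false

namespace CfsgLib.Lie.Chev.InvTree.F4

open Cfsg.Lie (chevF4)
open MonCollect (chkSame)

theorem reps_sq : (reps.all fun T => chkSame chevF4 (ones (T ++ T)) []) = true := by decide +kernel

/-- the involutions of `F₄(q)`, `q` even: four classes with the listed representatives -/
theorem classes (F : Type*) [Field F] [Fintype F] [CharP F 2] :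
    (∀ T ∈ reps, orderOf ((chevRel certF4 F).prodOnes T) = 2) ∧
    (∀ g : ↥(chevF4.group F), orderOf g = 2 → ∃ T ∈ reps, IsConj g ((chevRel certF4 F).prodOnes T)) ∧
    ∀ T ∈ reps, ∀ T' ∈ reps, IsConj ((chevRel certF4 F).prodOnes T) ((chevRel certF4 F).prodOnes T') → T = T' := by
  obtain ⟨R, hR⟩ : ∃ R, R = chevRel certF4 F := ⟨_, rfl⟩
  have hrk : ∀ T ∈ reps, R.rkSub (R.prodOnes T) =
      if T = [47] then 16 else if T = [44] then 16 else if T = [47, 44] then 21 else 24 := by
    intro T hT
    simp only [reps, List.mem_cons, List.not_mem_nil, or_false] at hT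
    rcases hT with rfl | rfl | rfl | rfl
    · exact R.rkSub_prodOne rankR47
    · exact R.rkSub_prodOne rankR44
    · exact R.rkSub_prodOne rankR4744
    · exact R.rkSub_prodOne rankR3945
  rw [← hR]
  refine ⟨fun T hT => ?_, fun g hg => ?_, fun T hT T' hT' hc => ?_⟩
  · have h2 : R.prodOnes T * R.prodOnes T = 1 := by
      have h := reps_sq
      simp only [List.all_eq_true] at h
      have e := MonCollect.word_eq_of_chk R ([] : List F) (h T hT)
      rw [R.word_ones, MonCollect.word_nil] at e
      rw [← e, Rel.prodOnes, Rel.prodOnes, List.map_append, List.prod_append]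
    refine orderOf_eq_prime (by rw [sq]; exact h2) fun e => ?_
    have h := hrk T hT
    rw [e, R.rkSub_one] at h
    split_ifs at h
  · subst hR
    exact exists_rep_of_tree certF4 F moves_chk tree_chk tree_top hg
  · have h := R.rkSub_conj hc
    rw [hrk T hT, hrk T' hT'] at h
    have key : ∀ a b : ℕ, R.rkIdeal shortIdeal_lt (R.prodOnes [47]) = a →
        R.rkIdeal shortIdeal_lt (R.prodOnes [44]) = b → IsConj (R.prodOnes [47]) (R.prodOnes [44]) → a = b :=
      fun a b ha hb hcc => by rw [← ha, ← hb]; exact R.rkIdeal_conj shortIdeal_chk shortIdeal_lt hcc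
    have k2 := key 6 10 (R.rkIdeal_prodOne shortIdeal_lt shortIdeal_nodup rankS47)
      (R.rkIdeal_prodOne shortIdeal_lt shortIdeal_nodup rankS44)
    simp only [reps, List.mem_cons, List.not_mem_nil, or_false] at hT hT'
    rcases hT with rfl | rfl | rfl | rfl <;> rcases hT' with rfl | rfl | rfl | rfl <;>
      first
        | rfl
        | (exact absurd h (by decide))
        | (exact absurd (k2 hc) (by decide))
        | (exact absurd (k2 hc.symm) (by decide))

end CfsgLib.Lie.Chev.InvTree.F4
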